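import Cfsg.Agent.CosetCert.Basic

/-!
Words in named elements, expanded to words in six involutory letters.
-/

set_option autoImplicit false

namespace Cfsg.Lib.JankoOne.Iso

open Cfsg.Lib.CosetCert

/-- The expansion of a name in the letters `t, u, s, y, z, e`. -/
def expand (a : ℕ) : List ℕ :=
  [[0], [1], [2], [3], [4], [5], [2, 3], [3, 2], [0, 4], [4, 0], [4, 5], [5, 4]].getD a []

/-- Free reduction. -/
def red (w : List ℕ) : List ℕ :=
  w.foldr (fun a r => match r with
    | b :: r' => if a = b then r' else a :: r
    | [] => [a]) []

/-- The word in letters of a word in names. -/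
def low (h : List ℕ) : List ℕ := red (h.flatMap expand)

/-- The squares. -/
def sqRels : List (List ℕ) := [[0, 0], [1, 1], [2, 2], [3, 3], [4, 4], [5, 5]]

/-- The relators coming from a list of words in names. -/
def relsOf (H : List (List ℕ)) : List (List ℕ) := sqRels ++ H.map low

variable {G : Type*} [Group G] (im : ℕ → G)

/-- The value of a name. -/
def nameVal (a : ℕ) : G := wval im (expand a)

theorem wval_red (hinv : ∀ l, im l * im l = 1) : ∀ w : List ℕ, wval im (red w) = wval im w
  | [] => rfl
  | a :: w => by
    have ih := wval_red hinv w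
    have e : wval im (a :: w) = im a * wval im w := by simp [wval]
    rw [e, ← ih]
    show wval im (List.foldr _ [] (a :: w)) = _
    rw [List.foldr_cons]
    show wval im (match red w with | b :: r' => if a = b then r' else a :: red w | [] => [a]) = _
    rcases hr : red w with _ | ⟨b, r⟩
    · simp [wval]
    · simp only
      split_ifs with hab
      · subst hab
        simp [wval, ← mul_assoc, hinv a]
      · simp [wval]

theorem wval_low (hinv : ∀ l, im l * im l = 1) (h : List ℕ) : wval im (low h) = (h.map (nameVal im)).prod := by
  rw [low, wval_red im hinv]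
  induction h with
  | nil => rfl
  | cons a h ih =>
    rw [List.flatMap_cons, List.map_cons, List.prod_cons, ← ih, nameVal]
    simp [wval]

theorem relsOf_hold (hinv : ∀ l, im l * im l = 1) {H : List (List ℕ)}
    (hH : ∀ h ∈ H, (h.map (nameVal im)).prod = 1) : ∀ r ∈ relsOf H, wval im r = 1 := by
  intro r hr
  rw [relsOf, List.mem_append] at hr
  rcases hr with hr | hr
  · simp only [sqRels, List.mem_cons, List.not_mem_nil, or_false] at hr
    rcases hr with rfl | rfl | rfl | rfl | rfl | rfl <;> simp [wval, hinv]
  · obtain ⟨h, hh, rfl⟩ := List.mem_map.1 hr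
    rw [wval_low im hinv, hH h hh]

end Cfsg.Lib.JankoOne.Iso
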