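import Cfsg.Agent.JankoOne.Iso.Gen
import Cfsg.Agent.JankoOne.Iso.C0.Check
import Cfsg.Agent.JankoOne.Iso.C1.Check
import Cfsg.Agent.JankoOne.Iso.C2.Check
import Cfsg.Agent.JankoOne.Iso.C3.Check
import Cfsg.Agent.JankoOne.Iso.C4.Check
import Cfsg.Agent.JankoOne.Iso.C5.Check
import Cfsg.Agent.JankoOne.Iso.C6.Check
import Cfsg.Agent.JankoOne.Iso.C7.Check
import Cfsg.Agent.Janko.Orders

/-!
A simple group with a 2-central involution whose centralizer is `2 × A₅` is Janko's first group.
-/

set_option autoImplicit false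
set_option linter.unusedSectionVars false
set_option synthInstance.maxSize 2000

namespace Cfsg.Lib.JankoOne.Iso

open Subgroup Cfsg.Lib.CosetCert

universe u v

variable {G : Type u} [Group G] [Finite G] {H : Type v} [Group H] [Finite H]

theorem high_sub : ∀ i : Fin 8,
    ∀ h ∈ [C0.high, C1.high, C2.high, C3.high, C4.high, C5.high, C6.high, C7.high].getD i [],
      h ∈ commonRels ∨ h = (caseWords.getD i ([], [])).1 ∨ h = (caseWords.getD i ([], [])).2 := by
  decide +kernel

theorem high_letters : ∀ i : Fin 8,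
    ∀ r ∈ relsOf ([C0.high, C1.high, C2.high, C3.high, C4.high, C5.high, C6.high, C7.high].getD i []),
      ∀ l ∈ r, l < 6 := by
  decide +kernel

theorem case_index : ∀ p ∈ caseWords, ∃ i : Fin 8, caseWords.getD i ([], []) = p := by decide +kernel

/-- The good frame: the words of the first certificate hold. -/
theorem exists_good [IsSimpleGroup G] (S : Setup G) (hcard : Nat.card G = 175560) :
    ∃ F : Frame G, (∀ r ∈ relsOf C0.high, wval F.im r = 1) ∧ closure (F.im '' Set.Iio 6) = ⊤ := by
  obtain ⟨B⟩ := exists_base S hcard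
  obtain ⟨F⟩ := exists_frame B hcard
  have htop : closure (F.im '' Set.Iio 6) = ⊤ := by
    have mem : ∀ l < 6, F.im l ∈ closure (F.im '' Set.Iio 6) := fun l hl => subset_closure ⟨l, hl, rfl⟩
    refine eq_top F.B hcard _ (reach_mem F.B.S ⟨mem 0 (by norm_num), mem 1 (by norm_num), mem 2 (by norm_num), ?_⟩) ?_
    · have := mul_mem (mem 2 (by norm_num)) (mem 3 (by norm_num))
      rw [← cent_check.2.1, map_mul]
      exact this
    · have := mul_mem (mem 4 (by norm_num)) (mem 5 (by norm_num))
      rwa [show F.im 4 * F.im 5 = F.z * (F.z * F.B.d) from rfl, ← mul_assoc, F.z_sq, one_mul] at this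
  obtain ⟨p, hp, h1, h2⟩ := F.cases hcard
  obtain ⟨i, rfl⟩ := case_index p hp
  have hrel : ∀ r ∈ relsOf ([C0.high, C1.high, C2.high, C3.high, C4.high, C5.high, C6.high, C7.high].getD i []),
      wval F.im r = 1 := by
    refine relsOf_hold F.im F.im_sq fun h hh => ?_
    rcases high_sub i h hh with hc | rfl | rfl
    · exact F.common h hc
    · exact h1
    · exact h2
  have hsubs : ∀ s ∈ [0, 1, 2, 3], F.im s ∈ F.B.S.φ.range := by
    intro s hs
    simp only [List.mem_cons, List.not_mem_nil, or_false] at hs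
    rcases hs with rfl | rfl | rfl | rfl <;> exact ⟨_, rfl⟩
  have hbound : ∀ (C : Cert) (R : List (List ℕ)), C.Valid R → (∀ r ∈ R, wval F.im r = 1) →
      C.ng = 6 → C.subs = [0, 1, 2, 3] → 175560 ≤ C.fin.length * 120 := by
    intro C R hC hR hng hsb
    have hb := card_le C F.im hC (K := F.B.S.φ.range) (L := ⊤) (fun l _ => F.im_sq l) hR (fun _ _ l _ => F.im_sq l)
      (fun s hs => hsubs s (hsb ▸ hs)) (by rw [hng, htop])
    rw [card_top, hcard, F.B.S.cent, F.B.S.card_cent] at hb
    exact hb.2
  fin_cases i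
  · exact ⟨F, hrel, htop⟩
  all_goals exfalso
  · have := hbound C1.cert _ C1.valid hrel rfl rfl; rw [C1.fins_length] at this; omega
  · have := hbound C2.cert _ C2.valid hrel rfl rfl; rw [C2.fins_length] at this; omega
  · have := hbound C3.cert _ C3.valid hrel rfl rfl; rw [C3.fins_length] at this; omega
  · have := hbound C4.cert _ C4.valid hrel rfl rfl; rw [C4.fins_length] at this; omega
  · have := hbound C5.cert _ C5.valid hrel rfl rfl; rw [C5.fins_length] at this; omega
  · have := hbound C6.cert _ C6.valid hrel rfl rfl; rw [C6.fins_length] at this; omega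
  · have := hbound C7.cert _ C7.valid hrel rfl rfl; rw [C7.fins_length] at this; omega

/-- Two groups with the data are isomorphic. -/
theorem iso_of_setups [IsSimpleGroup G] [IsSimpleGroup H] (SG : Setup G) (SH : Setup H)
    (hG : Nat.card G = 175560) (hH : Nat.card H = 175560) : Nonempty (G ≃* H) := by
  obtain ⟨F, hF, hFt⟩ := exists_good SG hG
  obtain ⟨F', hF', hFt'⟩ := exists_good SH hH
  let im : ℕ → G × H := fun l => (F.im l, F'.im l)
  let φ : K →* G × H := F.B.S.φ.prod F'.B.S.φ
  have hfst : ∀ w, (wval im w).1 = wval F.im w := fun w => by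
    rw [show (wval im w).1 = MonoidHom.fst G H (wval im w) from rfl, wval, map_list_prod, List.map_map]; rfl
  have hsnd : ∀ w, (wval im w).2 = wval F'.im w := fun w => by
    rw [show (wval im w).2 = MonoidHom.snd G H (wval im w) from rfl, wval, map_list_prod, List.map_map]; rfl
  have hR : ∀ r ∈ relsOf C0.high, wval im r = 1 := fun r hr =>
    Prod.ext ((hfst r).trans (hF r hr)) ((hsnd r).trans (hF' r hr))
  have hsq : ∀ l, im l * im l = 1 := fun l => Prod.ext (F.im_sq l) (F'.im_sq l)
  set L := closure (im '' Set.Iio C0.cert.ng) with hL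
  obtain ⟨hfin, hle⟩ := card_le C0.cert im C0.valid (K := φ.range) (L := L) (fun l _ => hsq l) hR
    (fun _ _ l _ => hsq l) (fun s hs => by
      change s ∈ [0, 1, 2, 3] at hs
      simp only [List.mem_cons, List.not_mem_nil, or_false] at hs
      rcases hs with rfl | rfl | rfl | rfl <;> exact ⟨_, rfl⟩) le_rfl
  have hφ : Nat.card φ.range ≤ 120 := by
    have h := Nat.card_le_card_of_surjective φ.rangeRestrict φ.rangeRestrict_surjective
    rwa [Nat.card_eq_fintype_card (α := K), card_K] at h
  have hLle : Nat.card L ≤ 175560 := by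
    rw [C0.fins_length] at hle
    omega
  let πG : L →* G := (MonoidHom.fst G H).comp L.subtype
  let πH : L →* H := (MonoidHom.snd G H).comp L.subtype
  have surjG : Function.Surjective πG := by
    rw [← MonoidHom.range_eq_top, eq_top_iff, ← hFt]
    refine (closure_le _).2 ?_
    rintro _ ⟨l, hl, rfl⟩
    exact ⟨⟨im l, subset_closure ⟨l, hl, rfl⟩⟩, rfl⟩
  have surjH : Function.Surjective πH := by
    rw [← MonoidHom.range_eq_top, eq_top_iff, ← hFt']
    refine (closure_le _).2 ?_
    rintro _ ⟨l, hl, rfl⟩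
    exact ⟨⟨im l, subset_closure ⟨l, hl, rfl⟩⟩, rfl⟩
  have bG : Function.Bijective πG := (Nat.bijective_iff_surjective_and_card _).2
    ⟨surjG, le_antisymm (hG ▸ hLle) (Nat.card_le_card_of_surjective _ surjG)⟩
  have bH : Function.Bijective πH := (Nat.bijective_iff_surjective_and_card _).2
    ⟨surjH, le_antisymm (hH ▸ hLle) (Nat.card_le_card_of_surjective _ surjH)⟩
  exact ⟨(MulEquiv.ofBijective πG bG).symm.trans (MulEquiv.ofBijective πH bH)⟩

theorem uniqueness [IsSimpleGroup G] [IsSimpleGroup H] (t : G) (s : H) (ht : Cfsg.IsTwoCentralInvolution t)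
    (hs : Cfsg.IsTwoCentralInvolution s) (e : centralizer ({t} : Set G) ≃* K)
    (f : centralizer ({s} : Set H) ≃* K) : Nonempty (G ≃* H) := by
  obtain ⟨SG, -⟩ := exists_setup t ht e
  obtain ⟨SH, -⟩ := exists_setup s hs f
  exact iso_of_setups SG SH (isJOne t ht e) (isJOne s hs f)

theorem two_central {p : G} (hp : orderOf p = 2) (hcent : Nat.card (centralizer ({p} : Set G)) = 120)
    (h16 : ¬ 16 ∣ Nat.card G) (h8 : 8 ∣ Nat.card G) : Cfsg.IsTwoCentralInvolution p := by
  have h2 : Fact (Nat.Prime 2) := ⟨Nat.prime_two⟩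
  refine ⟨hp, ?_⟩
  set C := centralizer ({p} : Set G)
  obtain ⟨T, hT⟩ := (IsPGroup.of_card (p := 2) (n := 1) (by rw [Nat.card_zpowers, orderOf_mk, hp, pow_one]) :
    IsPGroup 2 (zpowers (⟨p, mem_centralizer_singleton_iff.2 rfl⟩ : C))).exists_le_sylow
  have hTc : Nat.card ((T : Subgroup C).map C.subtype) = 8 := by
    rw [card_map_of_injective C.subtype_injective, T.card_eq_multiplicity, hcent,
      show (120 : ℕ).factorization 2 = 3 from ?_]
    · norm_num
    rw [show (120 : ℕ) = 2 ^ 3 * 15 by norm_num, Nat.factorization_mul (by norm_num) (by norm_num),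
      Nat.Prime.factorization_pow Nat.prime_two, Finsupp.add_apply, Finsupp.single_eq_same,
      Nat.factorization_eq_zero_of_not_dvd (by norm_num)]
  have hfac : (Nat.card G).factorization 2 = 3 := by
    refine le_antisymm ?_ ((Nat.Prime.pow_dvd_iff_le_factorization Nat.prime_two Nat.card_pos.ne').1 h8)
    by_contra h
    exact h16 ((Nat.Prime.pow_dvd_iff_le_factorization Nat.prime_two Nat.card_pos.ne').2 (not_le.1 h))
  refine ⟨Sylow.ofCard ((T : Subgroup C).map C.subtype) (by rw [hfac, hTc]; norm_num), ?_, ?_⟩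
  · exact ⟨_, hT (mem_zpowers _), rfl⟩
  · intro x hx
    exact mem_centralizer_singleton_iff.1 (map_subtype_le _ hx)

theorem isoJOne [IsSimpleGroup G] (t : G) (ht : Cfsg.IsTwoCentralInvolution t)
    (e : centralizer ({t} : Set G) ≃* K) : Cfsg.Spor.IsoJ1 G := by
  haveI := Cfsg.Lib.Janko.finite_J
  haveI : IsSimpleGroup Cfsg.Spor.J1 := Cfsg.Lib.Janko.isJ1.1
  obtain ⟨f⟩ := Cfsg.Lib.Janko.centralizer_equiv
  have hJ : Nat.card Cfsg.Spor.J1 = 175560 := Cfsg.Lib.Janko.card_J
  refine uniqueness t _ ht (two_central Cfsg.Lib.Janko.tJ_order ?_ (by rw [hJ]; norm_num) (by rw [hJ]; norm_num)) e f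
  rw [Nat.card_congr f.toEquiv, Nat.card_eq_fintype_card, card_K]

end Cfsg.Lib.JankoOne.Iso
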