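import Cfsg.Agent.JankoOne.LocalTable
import Cfsg.Agent.CosetCert.Basic

/-!
The model `2 × A₅`, its named elements and the finite facts used for the uniqueness of Janko's first group.
-/

set_option autoImplicit false
set_option maxRecDepth 20000
set_option synthInstance.maxSize 2000
set_option synthInstance.maxHeartbeats 400000

namespace Cfsg.Lib.JankoOne.Iso

open Equiv

/-- An involution fixing `0`. -/
def uA : A := ⟨swap 1 2 * swap 3 4, Equiv.Perm.mem_alternatingGroup.2 (by decide +kernel)⟩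

/-- An element of order three. -/
def bA : A := ⟨(swap 2 4 * swap 4 3 : Perm (Fin 5)), Equiv.Perm.mem_alternatingGroup.2 (by decide +kernel)⟩

/-- An involution moving `0`. -/
def sA : A := ⟨swap 0 1 * swap 2 3, Equiv.Perm.mem_alternatingGroup.2 (by decide +kernel)⟩

def kU : K := (1, uA)
def kB : K := (1, bA)
def kS : K := (1, sA)
/-- The product of `s` and `b`. -/
def kY : K := kS * kB
def kV : K := kB⁻¹ * kU * kB
/-- The involution commuting with `s`. -/
def kW : K := kU * kB⁻¹ * kS * kU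

/-- The four group with the central involution. -/
abbrev V := Multiplicative (ZMod 2 × ZMod 2 × ZMod 2)

def eT : V := Multiplicative.ofAdd (1, 0, 0)
def eU : V := Multiplicative.ofAdd (0, 1, 0)
def eV : V := Multiplicative.ofAdd (0, 0, 1)

/-- The embedding. -/
def iotaK : V →* K where
  toFun v := zc ^ (Multiplicative.toAdd v).1.val * (kU ^ (Multiplicative.toAdd v).2.1.val *
    kV ^ (Multiplicative.toAdd v).2.2.val)
  map_one' := by decide +kernel
  map_mul' := by decide +kernel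

theorem iotaK_gens : iotaK eT = zc ∧ iotaK eU = kU ∧ iotaK eV = kV := by decide +kernel

theorem iotaK_inj : ∀ v w, iotaK v = iotaK w → v = w := by decide +kernel

/-- The linear map with given values on the basis. -/
def lin (p q r v : V) : V :=
  p ^ (Multiplicative.toAdd v).1.val * (q ^ (Multiplicative.toAdd v).2.1.val * r ^ (Multiplicative.toAdd v).2.2.val)

theorem lin_hom (φ : V →* V) (v : V) : φ v = lin (φ eT) (φ eU) (φ eV) v := by
  have h : ∀ v : V, v = lin eT eU eV v := by decide +kernel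
  conv_lhs => rw [h v]
  simp [lin, map_mul, map_pow]

/-- The action of `b`. -/
def actB : V → V := lin eT (eU * eV) eU
/-- The action of the element of order seven. -/
def actD : V → V := lin eU (eU * eV) (eT * eV)
/-- The image of the action under the outer automorphism. -/
def actD' : V → V := lin eU eV (eT * eU)

theorem iotaK_B : ∀ v, kB * iotaK v = iotaK (actB v) * kB := by decide +kernel

theorem stab_gens : ∀ k : K, (∃ w : V, k * iotaK eU = iotaK w * k) → (∃ w : V, k * iotaK eV = iotaK w * k) →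
    ∃ j : Fin 3, ∀ v : V, k * iotaK v = iotaK (actB^[j] v) * k := by decide +kernel

theorem stab_action (k : K) (h : ∀ v : V, ∃ w : V, k * iotaK v = iotaK w * k) :
    ∃ j : Fin 3, ∀ v : V, k * iotaK v = iotaK (actB^[j] v) * k := stab_gens k (h eU) (h eV)

theorem cent_four : ∀ k : K, k * kU = kU * k → k * kV = kV * k → ∃ v, iotaK v = k := by decide +kernel

/-- Compositions of a map with the action of `b`. -/
def wordMap (M : V → V) : List Bool → V → V
  | [], v => v
  | c :: w, v => (if c then actB else M) (wordMap M w v)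

/-- Words exposing the bad actions. -/
def badWords : List (List Bool) :=
  [[false, true, false, true, true, false, false, false], [false, true, true, false, true, false, false, false],
   [false, false, false, false, true, false, false], [false, false, false, true, true, false, false, false],
   [false, true, false, false], [false, true, false, false, true, false],
   [false, true, false, true, true, false]]

theorem action_cases : ∀ x y : V, (∀ v w, lin eU x y v = lin eU x y w → v = w) →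
    (∃ j : Fin 3, ∀ v, lin eU x y (actB^[j] v) = actD v) ∨ (∃ j : Fin 3, ∀ v, lin eU x y (actB^[j] v) = actD' v) ∨
    ∃ w ∈ badWords, wordMap (lin eU x y) w eT = eT ∧ ¬ ∃ j : Fin 3, ∀ v, wordMap (lin eU x y) w v = actB^[j] v := by
  decide +kernel

theorem actD_facts : (∀ v, actD v = v → v = 1) ∧ (∀ v, actD^[7] v = v) ∧
    (∀ v, actB (actD v) = actD (actD (actB v))) := by decide +kernel

theorem fix_shift : ∀ c : V,
    actB (actB c) * actB c * actB (actD (actD c)) * c * actD^[2] c * actD^[4] c * actD^[6] c = 1 →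
    ∃ x : V, actB x * c * actD (actD (actB x)) = x * actD (actD x) := by decide +kernel

/-- Conjugation by a transposition. -/
def sigA : A →* A where
  toFun a := ⟨swap 3 4 * a.1 * swap 3 4, Equiv.Perm.mem_alternatingGroup.2 (by
    rw [map_mul, map_mul, Equiv.Perm.mem_alternatingGroup.1 a.2, Equiv.Perm.sign_swap (by decide)]; rfl)⟩
  map_one' := Subtype.ext (by simp)
  map_mul' a b := Subtype.ext (by
    show swap 3 4 * (a.1 * b.1) * swap 3 4 = swap 3 4 * a.1 * swap 3 4 * (swap 3 4 * b.1 * swap 3 4)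
    simp [mul_assoc])

/-- The outer automorphism of the model. -/
def sigK : K →* K := MonoidHom.prodMap (MonoidHom.id _) sigA

theorem sigK_facts : (∀ k, sigK (sigK k) = k) ∧ sigK zc = zc ∧
    (∀ v, sigK (iotaK (actD v)) = iotaK (actD' ((lin eT eU (eU * eV)) v))) ∧
    (∀ v, sigK (iotaK v) = iotaK (lin eT eU (eU * eV) v)) := by decide +kernel

theorem model_facts : kS * zc = zc * kS ∧ kW * kS = kS * kW ∧ kW * zc = zc * kW ∧ kW * kW = 1 ∧ kS * kS = 1 ∧
    kS * kB * kS = kB⁻¹ ∧ kY * kY = 1 ∧ kS ≠ 1 ∧ zc * kS ≠ 1 ∧ kB ^ 3 = 1 ∧ kB ≠ 1 := by decide +kernel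

theorem model_apart : ∀ x, x = kS ∨ x = zc * kS → zc ≠ x ∧ kW ≠ 1 ∧ kW ≠ x ∧ kW ≠ zc ∧ kW ≠ zc * x := by
  decide +kernel

theorem cent_b : ∀ k : K, k * kB = kB * k →
    k = 1 ∨ k = kB ∨ k = kB * kB ∨ k = zc ∨ k = zc * kB ∨ k = zc * (kB * kB) := by decide +kernel

theorem third_rel : ∀ T : A, T * T = 1 → T ≠ 1 → ∀ W : A, W * W = 1 → W ≠ 1 → W ≠ T → T * W = W * T →
    ∀ F : A, F ^ 5 = 1 → F ≠ 1 → T * F * T = F⁻¹ → (W * F) ^ 3 = 1 ∨ (T * W * F) ^ 3 = 1 := by decide +kernel

theorem fst_sq : ∀ a : Multiplicative (ZMod 2), a = 1 ∨ a = Multiplicative.ofAdd 1 := by decide +kernel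

/-- Words in the names for the elements, indexed by three images and the first component. -/
def wordTable : List (List ℕ) :=
  [[], [], [], [], [], [], [], [], [6,6], [6],
   [], [1], [], [1,6], [1,6,6], [], [6,6,1], [1,6,1], [], [6,6,1,6],
   [], [6,1], [6,1,6], [6,1,6,6], [], [], [], [6,2], [2], [2,6],
   [], [], [], [], [], [6,2,1], [], [], [2,1,6,1], [6,2,1,6],
   [2,1], [], [2,1,6], [], [2,1,6,6], [2,6,1], [], [2,6,1,6,6], [2,6,1,6], [],
   [], [1,6,2], [], [1,2,6], [1,2], [1,6,2,1], [], [], [6,2,1,2], [1,2,1,6,1],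
   [], [], [], [], [], [1,2,6,1], [6,2,1,2,1], [], [], [1,2,6,1,6],
   [1,2,1], [1,2,1,6], [], [1,2,1,6,6], [], [], [1,6,1,2,6], [6,6,1,2], [], [1,6,1,2],
   [2,1,6,2], [], [2,1,2,6], [], [2,1,2], [6,6,1,2,1], [1,2,6,1,2], [], [], [1,2,6,1,2,6],
   [], [], [], [], [], [1,6,1,2,1], [2,1,2,1], [6,1,2,1,2], [], [],
   [], [6,1,6,2], [6,1,2,6], [6,1,2], [], [2,6,1,6,2], [], [2,6,1,2], [2,6,1,2,6], [],
   [1,2,1,6,2], [1,2,1,2,6], [], [1,2,1,2], [], [6,1,2,1], [6,1,2,1,6], [1,2,1,2,1], [], [],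
   [], [], [], [], [], [], [], [], [], [],
   [], [], [0], [0,6,6], [0,6], [], [0,1], [], [0,1,6], [0,1,6,6],
   [], [0,6,6,1], [0,1,6,1], [], [0,6,6,1,6], [], [0,6,1], [0,6,1,6], [0,6,1,6,6], [],
   [], [], [0,6,2], [0,2], [0,2,6], [], [], [], [], [],
   [0,6,2,1], [], [], [0,2,1,6,1], [0,6,2,1,6], [0,2,1], [], [0,2,1,6], [], [0,2,1,6,6],
   [0,2,6,1], [], [0,2,6,1,6,6], [0,2,6,1,6], [], [], [0,1,6,2], [], [0,1,2,6], [0,1,2],
   [0,1,6,2,1], [], [], [0,6,2,1,2], [0,1,2,1,6,1], [], [], [], [], [],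
   [0,1,2,6,1], [0,6,2,1,2,1], [], [], [0,1,2,6,1,6], [0,1,2,1], [0,1,2,1,6], [], [0,1,2,1,6,6], [],
   [], [0,1,6,1,2,6], [0,6,6,1,2], [], [0,1,6,1,2], [0,2,1,6,2], [], [0,2,1,2,6], [], [0,2,1,2],
   [0,6,6,1,2,1], [0,1,2,6,1,2], [], [], [0,1,2,6,1,2,6], [], [], [], [], [],
   [0,1,6,1,2,1], [0,2,1,2,1], [0,6,1,2,1,2], [], [], [], [0,6,1,6,2], [0,6,1,2,6], [0,6,1,2], [],
   [0,2,6,1,6,2], [], [0,2,6,1,2], [0,2,6,1,2,6], [], [0,1,2,1,6,2], [0,1,2,1,2,6], [], [0,1,2,1,2], [],
   [0,6,1,2,1], [0,6,1,2,1,6], [0,1,2,1,2,1], [], [], [], [], [], [], []]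

/-- The values of the names. -/
def genK (a : ℕ) : K := [zc, kU, kS, 1, 1, 1, kB].getD a 1

/-- The index of an element. -/
def codeK (k : K) : ℕ :=
  125 * (Multiplicative.toAdd k.1).val + 25 * (k.2.1 0).val + 5 * (k.2.1 1).val + (k.2.1 2).val

theorem word_spec : ∀ k : K, ((wordTable.getD (codeK k) []).map genK).prod = k := by decide +kernel

theorem word_letters : ∀ w ∈ wordTable, ∀ a ∈ w, a = 0 ∨ a = 1 ∨ a = 2 ∨ a = 6 := by decide +kernel

end Cfsg.Lib.JankoOne.Iso
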