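import Cfsg.Agent.JankoOne.Main
import Cfsg.Agent.JankoOne.Iso.Model

/-!
An element of order seven normalizing the four group, with its exact action.
-/

set_option autoImplicit false
set_option linter.unusedSectionVars false
set_option maxHeartbeats 400000

namespace Cfsg.Lib.JankoOne.Iso

open Subgroup

universe u

variable {G : Type u} [Group G] [Finite G]

/-- The normalised data. -/
structure Base (G : Type u) [Group G] where
  S : Setup G
  d : G
  d_ne : d ≠ 1
  d_pow : d ^ 7 = 1
  act : ∀ v : V, d * S.φ (iotaK v) = S.φ (iotaK (actD v)) * d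
  bd : S.φ kB * d * (S.φ kB)⁻¹ = d * d

theorem small_facts : (∀ v : V, ∃ w, actB w = v) ∧ (∀ v : V, v⁻¹ = v) ∧ actD eT ≠ eT := by decide +kernel

theorem V_sq : (∀ v : V, v * v = 1) ∧ eU ≠ 1 := by decide +kernel

theorem cube_eq : ∀ c : V, actB (actB c) * actB c * actB (actD (actD c)) * c * actD^[2] c * actD^[4] c * actD^[6] c =
    actB (actB c * c * actD^[2] c) * (c * actD^[2] c * actD^[4] (c * actD^[2] c)) := by decide +kernel

/-- The map of the four group. -/
abbrev psiG (S : Setup G) : V →* G := S.φ.comp iotaK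

theorem psi_inj (S : Setup G) : Function.Injective (psiG S) := fun _ _ h => iotaK_inj _ _ (S.inj h)

theorem psi_B (S : Setup G) (v : V) : S.φ kB * psiG S v = psiG S (actB v) * S.φ kB := by
  show S.φ kB * S.φ _ = S.φ _ * S.φ kB
  rw [← map_mul, iotaK_B, map_mul]

theorem pow_act {M : V → V} {n : G} (S : Setup G) (h : ∀ v, n * psiG S v = psiG S (M v) * n) :
    ∀ (k : ℕ) (v : V), n ^ k * psiG S v = psiG S (M^[k] v) * n ^ k
  | 0, v => by simp
  | k + 1, v => by
    rw [pow_succ, mul_assoc, h, ← mul_assoc, pow_act S h k, Function.iterate_succ_apply, mul_assoc]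

theorem eq_psi_of_commute (S : Setup G) {x : G} (h : ∀ v, x * psiG S v = psiG S v * x) : ∃ v, psiG S v = x := by
  have ht := h eT
  simp only [MonoidHom.coe_comp, Function.comp_apply, iotaK_gens.1] at ht
  obtain ⟨k, rfl⟩ := S.exists_pre ht
  have hu := h eU
  have hv := h eV
  simp only [MonoidHom.coe_comp, Function.comp_apply, iotaK_gens.2.1, ← map_mul] at hu
  simp only [MonoidHom.coe_comp, Function.comp_apply, iotaK_gens.2.2, ← map_mul] at hv
  obtain ⟨v, hk⟩ := cent_four k (S.inj hu) (S.inj hv)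
  exact ⟨v, congrArg S.φ hk⟩

theorem base_of_action (S : Setup G) (n : G) (hn : ∀ v, n * psiG S v = psiG S (actD v) * n) :
    Nonempty (Base G) := by
  have hn7 : n ^ 7 = 1 := by
    obtain ⟨v, hv⟩ := eq_psi_of_commute S (x := n ^ 7) fun v => by rw [pow_act S hn, actD_facts.2.1]
    have h := hn v
    rw [hv] at h
    have : psiG S (actD v) = n ^ 7 := by
      rw [← mul_left_inj n, ← h, ← pow_succ', pow_succ]
    rw [← hv] at this
    rw [← hv, actD_facts.1 v (psi_inj S this), map_one]
  set b := S.φ kB with hb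
  set X := b * n * b⁻¹ with hX
  have hXact : ∀ v, X * psiG S v = psiG S (actD (actD v)) * X := by
    intro v
    obtain ⟨w, rfl⟩ := small_facts.1 v
    have e : b⁻¹ * psiG S (actB w) = psiG S w * b⁻¹ := by
      rw [hb, ← mul_right_inj (S.φ kB), mul_inv_cancel_left, ← mul_assoc, psi_B, mul_inv_cancel_right]
    calc X * psiG S (actB w) = b * n * (b⁻¹ * psiG S (actB w)) := by rw [hX]; group
      _ = b * (n * psiG S w) * b⁻¹ := by rw [e]; group
      _ = b * psiG S (actD w) * (n * b⁻¹) := by rw [hn]; group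
      _ = _ := by rw [hb, psi_B, actD_facts.2.2, hX, hb]; group
  obtain ⟨c, hc⟩ := eq_psi_of_commute S (x := X * (n * n)⁻¹) fun v => by
    obtain ⟨w, rfl⟩ : ∃ w, actD (actD w) = v :=
      ⟨actD^[5] v, by rw [← Function.iterate_succ_apply' actD 5 v, ← Function.iterate_succ_apply' actD 6 v,
        actD_facts.2.1]⟩
    have e : (n * n)⁻¹ * psiG S (actD (actD w)) = psiG S w * (n * n)⁻¹ := by
      rw [inv_mul_eq_iff_eq_mul, ← mul_assoc, mul_assoc n, hn, ← mul_assoc n, hn]; group
    calc X * (n * n)⁻¹ * psiG S (actD (actD w)) = X * ((n * n)⁻¹ * psiG S (actD (actD w))) := by group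
      _ = (X * psiG S w) * (n * n)⁻¹ := by rw [e]; group
      _ = _ := by rw [hXact]; group
  have hX' : X = psiG S c * n ^ 2 := by rw [hc, pow_two]; group
  have mulr : ∀ (v w : V) (i j : ℕ),
      psiG S v * n ^ i * (psiG S w * n ^ j) = psiG S (v * actD^[i] w) * n ^ (i + j) := by
    intro v w i j
    calc psiG S v * n ^ i * (psiG S w * n ^ j) = psiG S v * (n ^ i * psiG S w) * n ^ j := by group
      _ = _ := by rw [pow_act S hn, map_mul, pow_add]; group
  have cmul : ∀ x y : G, b * (x * y) * b⁻¹ = (b * x * b⁻¹) * (b * y * b⁻¹) := fun x y => by group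
  have cpsi : ∀ v, b * psiG S v * b⁻¹ = psiG S (actB v) := fun v => by rw [hb, psi_B]; group
  have hc3 : psiG S (actB (actB c) * actB c * actB (actD (actD c)) * c * actD^[2] c * actD^[4] c * actD^[6] c) = 1 := by
    have b3 : b * (b * (b * n * b⁻¹) * b⁻¹) * b⁻¹ = n := by
      calc _ = b ^ 3 * n * (b ^ 3)⁻¹ := by simp only [pow_succ, pow_zero, one_mul, mul_inv_rev, mul_assoc]
        _ = n := by rw [hb, ← map_pow, model_facts.2.2.2.2.2.2.2.2.2.1, map_one]; group
    have h2 : b * X * b⁻¹ = psiG S (actB c * c * actD^[2] c) * n ^ 4 := by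
      conv_lhs => rw [hX', pow_two, cmul, cmul, cpsi, ← hX, hX']
      rw [mulr, ← mul_assoc, ← map_mul, ← mul_assoc]
    have h4 : X * X * (X * X) = psiG S (c * actD^[2] c * (actD^[4] (c * actD^[2] c))) * n ^ 8 := by
      rw [hX', mulr, mulr]
    have h3 : b * (b * X * b⁻¹) * b⁻¹ = psiG S (actB (actB c * c * actD^[2] c)) * (X * X * (X * X)) := by
      rw [h2, cmul, cpsi]
      congr 1
      rw [show n ^ 4 = n * n * (n * n) by simp only [pow_succ, pow_zero, one_mul, mul_assoc], cmul, cmul]
    rw [← hX] at b3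
    rw [h3, h4, ← mul_assoc, ← map_mul, show n ^ 8 = n by rw [pow_succ, hn7, one_mul]] at b3
    rw [cube_eq]
    exact mul_eq_right.1 b3
  obtain ⟨x, hx⟩ := fix_shift c (psi_inj S (hc3.trans (map_one _).symm))
  have hxi : (psiG S x)⁻¹ = psiG S x := by rw [← map_inv, small_facts.2.1]
  refine ⟨⟨S, psiG S x * n * psiG S x, ?_, ?_, ?_, ?_⟩⟩
  · intro h
    have hn1 : n = 1 := by
      calc n = (psiG S x)⁻¹ * (psiG S x * n * psiG S x) * (psiG S x)⁻¹ := by group
        _ = 1 := by rw [h, hxi, mul_one, ← map_mul, V_sq.1, map_one]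
    have := hn eT
    rw [hn1, one_mul, mul_one] at this
    exact small_facts.2.2 (psi_inj S this).symm
  · rw [show psiG S x * n * psiG S x = psiG S x * n * (psiG S x)⁻¹ by rw [hxi], conj_pow, hn7]; group
  · intro v
    show psiG S x * n * psiG S x * psiG S v = psiG S (actD v) * (psiG S x * n * psiG S x)
    calc _ = psiG S x * n * psiG S (x * v) := by rw [map_mul]; group
      _ = psiG S x * (n * psiG S (v * x)) := by rw [mul_comm x v, mul_assoc]
      _ = psiG S x * (n * psiG S v) * psiG S x := by rw [map_mul]; group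
      _ = psiG S (x * actD v) * (n * psiG S x) := by rw [hn, map_mul]; group
      _ = psiG S (actD v * x) * (n * psiG S x) := by rw [mul_comm]
      _ = _ := by rw [map_mul]; group
  · have e1 : b * (psiG S x * n * psiG S x) * b⁻¹ = psiG S (actB x * c * actD (actD (actB x))) * n ^ 2 := by
      rw [cmul, cmul, cpsi, ← hX, hX', ← mul_assoc (psiG S (actB x)), ← map_mul, mul_assoc,
        pow_act S hn, ← mul_assoc, ← map_mul]
      rfl
    have e2 : psiG S x * n * psiG S x * (psiG S x * n * psiG S x) = psiG S (x * actD (actD x)) * n ^ 2 := by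
      calc _ = psiG S x * n * (psiG S x * psiG S x) * n * psiG S x := by group
        _ = psiG S x * (n ^ 2 * psiG S x) := by
          rw [show psiG S x * psiG S x = 1 by
            rw [← map_mul, V_sq.1, map_one]]
          simp only [pow_two, mul_assoc, one_mul]
        _ = _ := by rw [pow_act S hn, map_mul]; simp only [Function.iterate_succ, Function.iterate_zero,
          Function.comp_apply, id_eq]; group
    rw [← hb, e1, hx, ← e2]

/-- Compositions in the group. -/
def wordEl (m b : G) : List Bool → G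
  | [] => 1
  | c :: w => (if c then b else m) * wordEl m b w

theorem wordEl_act (S : Setup G) {m : G} {M : V → V} (hM : ∀ v, m * psiG S v = psiG S (M v) * m) :
    ∀ (w : List Bool) (v : V), wordEl m (S.φ kB) w * psiG S v = psiG S (wordMap M w v) * wordEl m (S.φ kB) w
  | [], v => by simp [wordEl, wordMap]
  | c :: w, v => by
    simp only [wordEl, wordMap]
    rw [mul_assoc, wordEl_act S hM w]
    cases c
    · simp only [if_neg Bool.false_ne_true, ← mul_assoc, hM]
    · simp only [if_true, ← mul_assoc, psi_B]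

/-- The data with the outer automorphism applied. -/
def twist (S : Setup G) : Setup G where
  φ := S.φ.comp sigK
  inj := fun a b h => by rw [← sigK_facts.1 a, ← sigK_facts.1 b]; exact congrArg sigK (S.inj h)
  cent := by
    rw [show (S.φ.comp sigK).range = S.φ.range from le_antisymm (by rintro _ ⟨k, rfl⟩; exact ⟨_, rfl⟩)
      (by rintro _ ⟨k, rfl⟩; exact ⟨sigK k, congrArg S.φ (sigK_facts.1 k)⟩), MonoidHom.comp_apply, sigK_facts.2.1]
    exact S.cent
  eight := S.eight
  sixteen := S.sixteen
  conj := fun x hx hx1 => by rw [MonoidHom.comp_apply, sigK_facts.2.1]; exact S.conj x hx hx1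

theorem exists_base (S : Setup G) (hcard : Nat.card G = 175560) : Nonempty (Base G) := by
  classical
  have : Fact (Nat.Prime 2) := ⟨Nat.prime_two⟩
  have hfac : (Nat.card G).factorization 2 = 3 := by
    rw [hcard]
    refine le_antisymm ?_ ((Nat.Prime.pow_dvd_iff_le_factorization Nat.prime_two (by norm_num)).1 (by norm_num))
    by_contra h
    exact absurd ((Nat.Prime.pow_dvd_iff_le_factorization Nat.prime_two (by norm_num)).2 (not_le.1 h))
      (by norm_num)
  let P : Sylow 2 G := Sylow.ofCard (psiG S).range (by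
    rw [hfac, ← Nat.card_congr (MonoidHom.ofInjective (psi_inj S)).toEquiv, Nat.card_eq_fintype_card]; decide +kernel)
  have hP : (P : Subgroup G) = (psiG S).range := rfl
  have : IsMulCommutative (P : Subgroup G) := ⟨⟨by
    rintro ⟨_, v, rfl⟩ ⟨_, w, rfl⟩
    exact Subtype.ext (by show psiG S v * psiG S w = psiG S w * psiG S v; rw [← map_mul, ← map_mul, mul_comm])⟩⟩
  have ht : psiG S eT = S.φ zc := congrArg S.φ iotaK_gens.1
  obtain ⟨g, hg⟩ := isConj_iff.1 (S.conj (psiG S eU) (by rw [← map_mul, V_sq.1, map_one])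
    (fun h => V_sq.2 (psi_inj S (h.trans (map_one _).symm))))
  rw [← ht] at hg
  obtain ⟨n, hn, e⟩ := P.conj_eq_normalizer_conj_of_mem (psiG S eT) g⁻¹ ⟨eT, rfl⟩
    (by rw [inv_inv, hg]; exact ⟨eU, rfl⟩)
  rw [inv_inv, hg] at e
  have hm : n⁻¹ ∈ normalizer ((P : Subgroup G) : Set G) := inv_mem hn
  set m := n⁻¹ with hmdef
  have hM' : ∀ v, ∃ w, m * psiG S v = psiG S w * m := fun v => by
    obtain ⟨w, hw⟩ : m * psiG S v * m⁻¹ ∈ (psiG S).range :=
      (Subgroup.mem_normalizer_iff.1 hm _).1 ⟨v, rfl⟩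
    exact ⟨w, by rw [hw]; group⟩
  choose M hM using hM'
  let φM : V →* V := MonoidHom.mk' M fun v w => psi_inj S (by
    rw [← mul_left_inj m, ← hM, map_mul, map_mul, ← mul_assoc, hM, mul_assoc, hM, mul_assoc])
  have hT : M eT = eU := psi_inj S (by
    rw [← mul_left_inj m, ← hM, e, hmdef]; group)
  have hlin : ∀ v, M v = lin eU (M eU) (M eV) v := fun v => by
    have h := lin_hom φM v
    simpa only [φM, MonoidHom.mk'_apply, hT] using h
  have hinjM : ∀ v w, M v = M w → v = w := fun v w h => psi_inj S (mul_left_cancel ((hM v).trans (by rw [h, hM])))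
  have hj : ∀ (j : ℕ) (v : V), m * S.φ kB ^ j * psiG S v = psiG S (M (actB^[j] v)) * (m * S.φ kB ^ j) := fun j v => by
    rw [mul_assoc, pow_act S (psi_B S), ← mul_assoc, hM, mul_assoc]
  rcases action_cases (M eU) (M eV) (fun v w h => hinjM v w (by rwa [hlin, hlin w])) with ⟨j, hjD⟩ | ⟨j, hjD⟩ | ⟨w, -, hfix, hbad⟩
  · exact base_of_action S _ fun v => by rw [hj j, hlin, hjD]
  · refine base_of_action (twist S) (m * S.φ kB ^ (j : ℕ)) fun v => ?_
    show _ * S.φ (sigK (iotaK v)) = S.φ (sigK (iotaK (actD v))) * _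
    rw [sigK_facts.2.2.1, sigK_facts.2.2.2, show S.φ (iotaK (lin eT eU (eU * eV) v)) = psiG S _ from rfl, hj j, hlin, hjD]
    rfl
  · exfalso
    have hMf : (lin eU (M eU) (M eV)) = M := funext fun v => (hlin v).symm
    rw [hMf] at hfix hbad
    have hw := wordEl_act S hM w
    have hc := hw eT
    rw [hfix, ht] at hc
    obtain ⟨k, hk⟩ := S.exists_pre hc
    have hk' : ∀ v, k * iotaK v = iotaK (wordMap M w v) * k := fun v => S.inj (by
      rw [map_mul, map_mul, hk]; exact hw v)
    obtain ⟨i, hi⟩ := stab_action k fun v => ⟨_, hk' v⟩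
    exact hbad ⟨i, fun v => iotaK_inj _ _ (mul_right_cancel ((hk' v).symm.trans (hi v)))⟩

end Cfsg.Lib.JankoOne.Iso
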