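import Cfsg.Agent.JankoOne.Iso.Base

/-!
The centralizers of elements of order three and seven in a group with the data and the order `175560`.
-/

set_option autoImplicit false
set_option linter.unusedSectionVars false
set_option synthInstance.maxSize 2000
set_option synthInstance.maxHeartbeats 400000

namespace Cfsg.Lib.JankoOne.Iso

open Subgroup

universe u

variable {G : Type u} [Group G] [Finite G]

/-- The order of the centralizer. -/
noncomputable abbrev cz (x : G) : ℕ := Nat.card (centralizer ({x} : Set G))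

theorem cz_conj (g x : G) : cz (g * x * g⁻¹) = cz x := by
  refine Nat.card_congr ((MulAut.conj g).toEquiv.subtypeEquiv fun y => ?_).symm
  show y ∈ centralizer ({x} : Set G) ↔ g * y * g⁻¹ ∈ centralizer ({g * x * g⁻¹} : Set G)
  rw [mem_centralizer_singleton_iff, mem_centralizer_singleton_iff]
  exact ((Commute.conj_iff (a := y) (b := x) g)).symm

theorem zpowers_card {p : ℕ} [hp : Fact p.Prime] {N : ℕ} (hN : Nat.card G = N) (h1 : p ∣ N)
    (h2 : ¬ p ^ 2 ∣ N) {y : G} (hy : orderOf y = p) :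
    Nat.card (zpowers y) = p ^ (Nat.card G).factorization p := by
  have h0 : N ≠ 0 := hN ▸ Nat.card_pos.ne'
  have : N.factorization p = 1 := by
    refine le_antisymm ?_ (hp.out.factorization_pos_of_dvd h0 h1)
    by_contra h
    exact h2 ((hp.out.pow_dvd_iff_le_factorization h0).2 (not_le.1 h))
  rw [Nat.card_zpowers, hy, hN, this, pow_one]

theorem cz_const {p : ℕ} [hp : Fact p.Prime] {N : ℕ} (hN : Nat.card G = N) (h1 : p ∣ N) (h2 : ¬ p ^ 2 ∣ N)
    {x y : G} (hx : orderOf x = p) (hy : orderOf y = p) : cz x = cz y := by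
  let A : Sylow p G := Sylow.ofCard (zpowers x) (zpowers_card hN h1 h2 hx)
  let B : Sylow p G := Sylow.ofCard (zpowers y) (zpowers_card hN h1 h2 hy)
  obtain ⟨g, hg⟩ := MulAction.exists_smul_eq G A B
  have hm : g * x * g⁻¹ ∈ zpowers y := by
    show g * x * g⁻¹ ∈ (B : Subgroup G)
    rw [← hg, Sylow.coe_subgroup_smul]
    exact ⟨x, mem_zpowers x, rfl⟩
  have he : zpowers (g * x * g⁻¹) = zpowers y := by
    refine eq_of_le_of_card_ge (zpowers_le.2 hm) ?_
    rw [Nat.card_zpowers, Nat.card_zpowers, hy, show g * x * g⁻¹ = (MulAut.conj g).toMonoidHom x from rfl,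
      orderOf_injective (MulAut.conj g).toMonoidHom (MulAut.conj g).injective, hx]
  have hc : ∀ a b : G, a ∈ zpowers b → centralizer ({b} : Set G) ≤ centralizer ({a} : Set G) := by
    intro a b ha c hc
    obtain ⟨i, rfl⟩ := mem_zpowers_iff.1 ha
    rw [mem_centralizer_singleton_iff] at hc ⊢
    exact (Commute.zpow_right (show Commute c b from hc) i).eq
  rw [← cz_conj g x]
  show Nat.card _ = Nat.card _
  rw [le_antisymm (hc y (g * x * g⁻¹) (he ▸ mem_zpowers y)) (hc _ y hm)]

theorem cz_symm {p q : ℕ} [hp : Fact p.Prime] [hq : Fact q.Prime] {N : ℕ} (hN : Nat.card G = N) (h1 : q ∣ N)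
    (h2 : ¬ q ^ 2 ∣ N) {x y : G} (hx : orderOf x = p) (hy : orderOf y = q) (h : q ∣ cz x) : p ∣ cz y := by
  obtain ⟨⟨z, hz⟩, hzo⟩ := exists_prime_orderOf_dvd_card' q h
  rw [orderOf_mk] at hzo
  rw [mem_centralizer_singleton_iff] at hz
  rw [← cz_const hN h1 h2 hzo hy]
  have := orderOf_dvd_natCard (⟨x, mem_centralizer_singleton_iff.2 hz.symm⟩ : centralizer ({z} : Set G))
  rwa [orderOf_mk, hx] at this

theorem cz_self {x : G} : orderOf x ∣ cz x := by
  have := orderOf_dvd_natCard (⟨x, mem_centralizer_singleton_iff.2 rfl⟩ : centralizer ({x} : Set G))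
  rwa [orderOf_mk] at this

/-- The normalizer of a group of prime order. -/
theorem prime_local {p : ℕ} [hp : Fact p.Prime] {N : ℕ} (hN : Nat.card G = N) (h1 : p ∣ N) (h2 : ¬ p ^ 2 ∣ N)
    {y : G} (hy : orderOf y = p) :
    ∃ e n : ℕ, N = cz y * e * n ∧ e ∣ p - 1 ∧ n % p = 1 ∧
      Nat.card (normalizer (zpowers y : Set G)) = cz y * e ∧
      e = Nat.card (zpowers y).normalizerMonoidHom.range := by
  let Q : Sylow p G := Sylow.ofCard (zpowers y) (zpowers_card hN h1 h2 hy)
  set M := normalizer (zpowers y : Set G) with hM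
  refine ⟨Nat.card (zpowers y).normalizerMonoidHom.range, M.index, ?_⟩
  have hcent : centralizer (zpowers y : Set G) = centralizer ({y} : Set G) := by
    rw [zpowers_eq_closure, centralizer_closure]
  have hle : centralizer ({y} : Set G) ≤ M := hcent ▸ centralizer_le_normalizer _
  have hcard : Nat.card M = cz y * Nat.card (zpowers y).normalizerMonoidHom.range := by
    have h := Subgroup.card_mul_index ((centralizer ({y} : Set G)).subgroupOf M)
    rw [Nat.card_congr (subgroupOfEquivOfLe hle).toEquiv] at h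
    rw [← h, ← index_ker, normalizerMonoidHom_ker, hcent]
  refine ⟨by rw [← hN, ← hcard, Subgroup.card_mul_index], ?_, ?_, hcard, rfl⟩
  · have h := Subgroup.card_subgroup_dvd_card (zpowers y).normalizerMonoidHom.range
    rwa [IsCyclic.card_mulAut, Nat.card_zpowers, hy, Nat.totient_prime hp.out] at h
  · have h := card_sylow_modEq_one p G
    rw [Sylow.card_eq_index_normalizer Q] at h
    rw [show M.index % p = 1 % p from h, Nat.mod_eq_of_lt hp.out.one_lt]

theorem range_order {p : ℕ} {y h : G} {k : ℕ} (hk : k.Prime) (hh : h ∈ normalizer (zpowers y : Set G))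
    (hhk : h ^ k = 1) (hne : h * y ≠ y * h) (hp : p = Nat.card (zpowers y).normalizerMonoidHom.range) : k ∣ p := by
  have : Fact k.Prime := ⟨hk⟩
  set w := (zpowers y).normalizerMonoidHom.rangeRestrict ⟨h, hh⟩ with hw
  have ho : orderOf w = k := by
    refine orderOf_eq_prime ?_ ?_
    · rw [hw, ← map_pow, show (⟨h, hh⟩ : normalizer (zpowers y : Set G)) ^ k = 1 from Subtype.ext hhk, map_one]
    · intro e
      have hker : (⟨h, hh⟩ : normalizer (zpowers y : Set G)) ∈ (zpowers y).normalizerMonoidHom.ker :=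
        MonoidHom.mem_ker.2 (congrArg Subtype.val e)
      rw [normalizerMonoidHom_ker, mem_subgroupOf, mem_centralizer_iff] at hker
      exact hne (hker y (mem_zpowers y)).symm
  rw [hp, ← ho]
  exact orderOf_dvd_natCard w

theorem quot_mod {N a n p : ℕ} (h : N = a * n) (hN : N ≠ 0) (hn : n % p = 1) : N / a % p = 1 := by
  rw [h, Nat.mul_div_cancel_left]
  · exact hn
  · exact Nat.pos_of_ne_zero fun ha => hN (by rw [h, ha, zero_mul])

theorem arith_seven : ∀ c ∈ [1, 11, 19, 209], ∀ e < 7, 3 ∣ e → e ∣ 6 → (7 * c * e) ∣ 175560 →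
    175560 / (7 * c * e) % 7 = 1 → c = 1 ∧ e = 6 := by decide +kernel

theorem arith_nineteen : ∀ k < 166, k ∣ 165 → ∀ e < 19, e ∣ 18 → (19 * k * e) ∣ 175560 →
    175560 / (19 * k * e) % 19 = 1 → (k = 1 ∨ k = 3) ∧ 19 * k * e = 114 := by decide +kernel

theorem arith_eleven : ∀ k < 16, k ∣ 15 → ∀ e < 11, e ∣ 10 → (11 * k * e) ∣ 175560 →
    175560 / (11 * k * e) % 11 = 1 → ¬ 3 ∣ k := by decide +kernel

theorem arith_three : ∀ k < 96, k ∣ 95 → (6 * k * 2) ∣ 175560 → 175560 / (6 * k * 2) % 3 = 1 → k = 5 ∨ k = 95 := by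
  decide +kernel

theorem dvd_cases_seven : ∀ c ∈ [1, 11, 19, 209], 7 * c ∣ 175560 := by decide +kernel

theorem divisors_209 {c : ℕ} (h : c ∣ 209) : c ∈ [1, 11, 19, 209] :=
  (show ∀ c < 210, c ∣ 209 → c ∈ [1, 11, 19, 209] by decide +kernel) c
    (Nat.lt_succ_of_le (Nat.le_of_dvd (by norm_num) h)) h

theorem cent_b_two : ∀ k : K, k * kB = kB * k → k * k = 1 → k = 1 ∨ k = zc := by decide +kernel

/-- Removing a prime that does not divide. -/
theorem dvd_drop {p a c : ℕ} (hp : p.Prime) (hpc : ¬ p ∣ c) {n : ℕ} (h : c ∣ p ^ n * a) : c ∣ a :=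
  (((hp.coprime_iff_not_dvd.2 hpc).pow_left n).symm).dvd_of_dvd_mul_left h

theorem odd_cent (S : Setup G) {p : ℕ} (hp : p.Prime) (hp2 : ¬ p ∣ 120) {y : G} (hy : orderOf y = p) :
    ¬ 2 ∣ cz y := by
  intro h
  have : Fact (Nat.Prime 2) := ⟨Nat.prime_two⟩
  obtain ⟨⟨i, hi⟩, hio⟩ := exists_prime_orderOf_dvd_card' 2 h
  rw [orderOf_mk] at hio
  obtain ⟨g, hg⟩ := isConj_iff.1 (S.conj i (by rw [← pow_two, ← hio, pow_orderOf_eq_one])
    (fun e => by simp [e] at hio))
  rw [mem_centralizer_singleton_iff] at hi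
  have := orderOf_dvd_natCard (⟨y, mem_centralizer_singleton_iff.2 hi.symm⟩ : centralizer ({i} : Set G))
  rw [orderOf_mk, hy, show Nat.card _ = cz i from rfl, ← hg, cz_conj, cz, S.card_cent] at this
  exact hp2 this

theorem order_three (S : Setup G) : orderOf (S.φ (1, rep 1)) = 3 ∧ orderOf (S.φ (1, rep 2)) = 5 ∧
    orderOf (S.φ kB) = 3 := by
  have : Fact (Nat.Prime 3) := ⟨Nat.prime_three⟩
  have : Fact (Nat.Prime 5) := ⟨by norm_num⟩
  rw [orderOf_injective S.φ S.inj, orderOf_injective S.φ S.inj, orderOf_injective S.φ S.inj]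
  exact ⟨orderOf_eq_prime (Prod.ext (one_pow 3) rep_orders.1) fun e => rep_orders.2.1 (congrArg Prod.snd e),
    orderOf_eq_prime (Prod.ext (one_pow 5) rep_orders.2.2.1) fun e => rep_orders.2.2.2 (congrArg Prod.snd e),
    orderOf_eq_prime model_facts.2.2.2.2.2.2.2.2.2.1 model_facts.2.2.2.2.2.2.2.2.2.2⟩

theorem cz_d (B : Base G) (hcard : Nat.card G = 175560) :
    cz B.d = 7 ∧ ∃ h : G, h * h = 1 ∧ h * B.d * h⁻¹ = B.d⁻¹ := by
  have h7 : Fact (Nat.Prime 7) := ⟨by norm_num⟩
  have : Fact (Nat.Prime 3) := ⟨Nat.prime_three⟩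
  have : Fact (Nat.Prime 5) := ⟨by norm_num⟩
  have : Fact (Nat.Prime 2) := ⟨Nat.prime_two⟩
  obtain ⟨o3, o5, ob⟩ := order_three B.S
  have hd : orderOf B.d = 7 := orderOf_eq_prime B.d_pow B.d_ne
  have h49 : ¬ 49 ∣ Nat.card G := by rw [hcard]; norm_num
  have n3 : ¬ 3 ∣ cz B.d := fun h => B.S.seven_not h49 (a := 1) (by decide)
    (cz_symm hcard (by norm_num) (by norm_num) hd o3 h)
  have n5 : ¬ 5 ∣ cz B.d := fun h => B.S.seven_not h49 (a := 2) (by decide)
    (cz_symm hcard (by norm_num) (by norm_num) hd o5 h)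
  obtain ⟨c, hc⟩ : 7 ∣ cz B.d := hd ▸ cz_self
  have hdvd : cz B.d ∣ 175560 := hcard ▸ card_subgroup_dvd_card _
  have hc' : c ∣ 209 := by
    have h1 : c ∣ 2 ^ 3 * (3 ^ 1 * (5 ^ 1 * 209)) := by
      rw [hc] at hdvd
      exact (Nat.mul_dvd_mul_iff_left (by norm_num : 0 < 7)).1 hdvd
    exact dvd_drop (by norm_num) (fun h => n5 (hc ▸ h.mul_left 7))
      (dvd_drop (by norm_num) (fun h => n3 (hc ▸ h.mul_left 7))
      (dvd_drop (by norm_num) (fun h => odd_cent B.S (by norm_num : Nat.Prime 7) (by norm_num) hd (hc ▸ h.mul_left 7)) h1))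
  obtain ⟨e, n, hprod, he6, hn, -, heq⟩ := prime_local hcard (by norm_num) (by norm_num) hd
  have hbN : B.S.φ kB ∈ normalizer (zpowers B.d : Set G) := by
    have hle : (zpowers B.d).map (MulAut.conj (B.S.φ kB)).toMonoidHom ≤ zpowers B.d := by
      rw [MonoidHom.map_zpowers, zpowers_le, show (MulAut.conj (B.S.φ kB)).toMonoidHom B.d = _ from B.bd]
      exact mul_mem (mem_zpowers _) (mem_zpowers _)
    have heq' := eq_of_le_of_card_ge hle (le_of_eq (card_map_of_injective (MulAut.conj (B.S.φ kB)).injective).symm)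
    rw [Subgroup.mem_normalizer_iff]
    intro x
    constructor
    · intro hx; rw [← heq']; exact ⟨x, hx, rfl⟩
    · intro hx
      rw [← heq'] at hx
      obtain ⟨x', hx', e⟩ := hx
      rwa [← (MulAut.conj (B.S.φ kB)).injective (e.trans (MulAut.conj_apply _ _).symm)]
  have h3e : 3 ∣ e := by
    refine range_order Nat.prime_three hbN ?_ ?_ heq
    · rw [← ob, pow_orderOf_eq_one]
    · intro hcm
      have := B.bd
      rw [hcm, mul_inv_cancel_right] at this
      exact B.d_ne (mul_eq_right.1 this.symm)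
  obtain ⟨rfl, rfl⟩ := arith_seven c (divisors_209 hc') e (Nat.lt_succ_of_le (Nat.le_of_dvd (by norm_num) he6)) h3e he6
    ⟨n, by rw [hprod, hc]⟩ (quot_mod (by rw [hprod, hc]) (by norm_num) hn)
  refine ⟨by rw [hc], ?_⟩
  obtain ⟨⟨_, x, rfl⟩, hw2⟩ := exists_prime_orderOf_dvd_card' 2 (heq ▸ (by norm_num : 2 ∣ 6))
  rw [← Subgroup.orderOf_coe] at hw2
  have hC : ∀ g : G, g * B.d = B.d * g → g ∈ zpowers B.d := by
    intro g hg
    have e : zpowers B.d = centralizer ({B.d} : Set G) :=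
      eq_of_le_of_card_ge (zpowers_le.2 (mem_centralizer_singleton_iff.2 rfl))
        (le_of_eq (by rw [Nat.card_zpowers, hd]; exact hc))
    rw [e, mem_centralizer_singleton_iff]; exact hg
  obtain ⟨i, hi⟩ := mem_powers_iff_mem_zpowers.2 ((Subgroup.mem_normalizer_iff.1 x.2 _).1 (mem_zpowers B.d))
  have hker : ∀ y : normalizer (zpowers B.d : Set G), (y : G) * B.d = B.d * y →
      (zpowers B.d).normalizerMonoidHom y = 1 := by
    intro y hy
    rw [← MonoidHom.mem_ker, normalizerMonoidHom_ker, mem_subgroupOf, mem_centralizer_iff]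
    intro a ha
    obtain ⟨j, rfl⟩ := mem_zpowers_iff.1 ha
    exact (Commute.zpow_left (show Commute B.d y from hy.symm) j).eq
  have hi' : B.d ^ (i % 7) = (x : G) * B.d * (x : G)⁻¹ := by
    rw [← hd, pow_mod_orderOf]; exact hi
  have hsq : ((x : G) * x) * B.d = B.d * ((x : G) * x) := by
    have h2 : (x * x) ∈ (zpowers B.d).normalizerMonoidHom.ker := by
      rw [MonoidHom.mem_ker, map_mul, ← pow_two, ← hw2, pow_orderOf_eq_one]
    rw [normalizerMonoidHom_ker, mem_subgroupOf, mem_centralizer_iff] at h2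
    exact (h2 B.d (mem_zpowers _)).symm
  have h1 : B.d ^ ((i % 7) * (i % 7)) = B.d := by
    rw [pow_mul, hi', conj_pow, hi']
    calc (x : G) * (x * B.d * (x : G)⁻¹) * (x : G)⁻¹ = (x : G) * x * B.d * ((x : G) * x)⁻¹ := by group
      _ = B.d := by rw [hsq]; group
  have hmod : (i % 7) * (i % 7) % 7 = 1 := by
    have := (pow_inj_mod (x := B.d) (n := (i % 7) * (i % 7)) (m := 1)).1 (by rw [h1, pow_one])
    rw [hd] at this
    omega
  have hlt : i % 7 < 7 := Nat.mod_lt _ (by norm_num)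
  interval_cases hv : i % 7
  all_goals first | omega | skip
  · exfalso
    rw [pow_one] at hi'
    have := hker x (mul_inv_eq_iff_eq_mul.1 hi'.symm)
    have e2 : orderOf ((zpowers B.d).normalizerMonoidHom x) = 2 := hw2
    rw [this, orderOf_one] at e2
    norm_num at e2
  · have hinv : (x : G) * B.d * (x : G)⁻¹ = B.d⁻¹ := by
      rw [← hi', eq_inv_iff_mul_eq_one, ← pow_succ, B.d_pow]
    refine ⟨x, ?_, hinv⟩
    obtain ⟨j, hj⟩ := mem_zpowers_iff.1 (hC _ hsq)
    have h2 : B.d ^ (-j) = B.d ^ j := by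
      calc B.d ^ (-j) = ((x : G) * B.d * (x : G)⁻¹) ^ j := by rw [hinv, inv_zpow, zpow_neg]
        _ = (x : G) * B.d ^ j * (x : G)⁻¹ := conj_zpow
        _ = _ := by rw [hj]; group
    rw [← hj, ← orderOf_dvd_iff_zpow_eq_one, hd]
    have h3 : (orderOf B.d : ℤ) ∣ 2 * j := orderOf_dvd_iff_zpow_eq_one.2 (by
      rw [two_mul, zpow_add]; nth_rewrite 1 [← h2]; group)
    rw [hd] at h3
    omega

theorem cz_b (B : Base G) (hcard : Nat.card G = 175560) : cz (B.S.φ kB) = 30 := by
  classical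
  have h7 : Fact (Nat.Prime 7) := ⟨by norm_num⟩
  have h11 : Fact (Nat.Prime 11) := ⟨by norm_num⟩
  have h19 : Fact (Nat.Prime 19) := ⟨by norm_num⟩
  have : Fact (Nat.Prime 3) := ⟨Nat.prime_three⟩
  have : Fact (Nat.Prime 5) := ⟨by norm_num⟩
  obtain ⟨o3, o5, ob⟩ := order_three B.S
  have hd : orderOf B.d = 7 := orderOf_eq_prime B.d_pow B.d_ne
  have hcd := (cz_d B hcard).1
  set b := B.S.φ kB with hb
  obtain ⟨y19, hy19⟩ := exists_prime_orderOf_dvd_card' (G := G) 19 (by rw [hcard]; norm_num)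
  obtain ⟨y11, hy11⟩ := exists_prime_orderOf_dvd_card' (G := G) 11 (by rw [hcard]; norm_num)
  -- nineteen
  have h19fact : ∃ k e : ℕ, cz y19 = 19 * k ∧ (k = 1 ∨ k = 3) ∧
      Nat.card (normalizer (zpowers y19 : Set G)) = 114 := by
    obtain ⟨k, hk⟩ : 19 ∣ cz y19 := hy19 ▸ cz_self
    obtain ⟨e, n, hprod, he, hn, hNc, -⟩ := prime_local hcard (by norm_num) (by norm_num) hy19
    have hdvd : cz y19 ∣ 175560 := hcard ▸ card_subgroup_dvd_card _
    rw [hk] at hdvd
    have h1 : k ∣ 2 ^ 3 * (7 ^ 1 * 165) := (Nat.mul_dvd_mul_iff_left (by norm_num : 0 < 19)).1 hdvd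
    have h2 : k ∣ 165 := dvd_drop (by norm_num) (fun h => by
        have := cz_symm hcard (by norm_num) (by norm_num) hy19 hd (hk ▸ h.mul_left 19)
        rw [hcd] at this; norm_num at this)
      (dvd_drop (by norm_num) (fun h => odd_cent B.S (by norm_num : Nat.Prime 19) (by norm_num) hy19
        (hk ▸ h.mul_left 19)) h1)
    obtain ⟨r1, r2⟩ := arith_nineteen k (Nat.lt_succ_of_le (Nat.le_of_dvd (by norm_num) h2)) h2 e
      (Nat.lt_succ_of_le (Nat.le_of_dvd (by norm_num) he)) he ⟨n, by rw [hprod, hk]⟩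
      (quot_mod (by rw [hprod, hk]) (by norm_num) hn)
    exact ⟨k, e, hk, r1, by rw [hNc, hk, r2]⟩
  obtain ⟨k19, -, hk19, hk19', hN19⟩ := h19fact
  have n11 : ¬ 11 ∣ cz y19 := by rcases hk19' with rfl | rfl <;> rw [hk19] <;> norm_num
  -- eleven
  have h3_11 : ¬ 11 ∣ cz b := by
    intro h
    have h' := cz_symm hcard (by norm_num) (by norm_num) ob hy11 h
    obtain ⟨k, hk⟩ : 11 ∣ cz y11 := hy11 ▸ cz_self
    obtain ⟨e, n, hprod, he, hn, -, -⟩ := prime_local hcard (by norm_num) (by norm_num) hy11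
    have hdvd : cz y11 ∣ 175560 := hcard ▸ card_subgroup_dvd_card _
    rw [hk] at hdvd
    have h1 : k ∣ 2 ^ 3 * (7 ^ 1 * (19 ^ 1 * 15)) := (Nat.mul_dvd_mul_iff_left (by norm_num : 0 < 11)).1 hdvd
    have h2 : k ∣ 15 := dvd_drop (by norm_num)
      (fun h => n11 (cz_symm hcard (by norm_num) (by norm_num) hy11 hy19 (hk ▸ h.mul_left 11)))
      (dvd_drop (by norm_num) (fun h => by
        have := cz_symm hcard (by norm_num) (by norm_num) hy11 hd (hk ▸ h.mul_left 11)
        rw [hcd] at this; norm_num at this)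
      (dvd_drop (by norm_num) (fun h => odd_cent B.S (by norm_num : Nat.Prime 11) (by norm_num) hy11
        (hk ▸ h.mul_left 11)) h1))
    refine arith_eleven k (Nat.lt_succ_of_le (Nat.le_of_dvd (by norm_num) h2)) h2 e
      (Nat.lt_succ_of_le (Nat.le_of_dvd (by norm_num) he)) he ⟨n, by rw [hprod, hk]⟩
      (quot_mod (by rw [hprod, hk]) (by norm_num) hn) ?_
    rw [hk] at h'
    exact (Nat.Coprime.dvd_mul_left (by norm_num : Nat.Coprime 3 11)).1 h'
  -- three
  have htb : B.S.φ zc * b = b * B.S.φ zc := by rw [hb, ← map_mul, ← map_mul, zc_comm]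
  have hsb : B.S.φ kS * b * (B.S.φ kS)⁻¹ = b⁻¹ := by
    rw [hb, ← map_inv, ← map_mul, ← map_mul, ← map_inv]
    congr 1
    rw [inv_eq_of_mul_eq_one_left model_facts.2.2.2.2.1]
    exact model_facts.2.2.2.2.2.1
  have h2dvd : 2 ∣ cz b := by
    have := orderOf_dvd_natCard (⟨B.S.φ zc, mem_centralizer_singleton_iff.2 htb⟩ : centralizer ({b} : Set G))
    rwa [orderOf_mk, orderOf_eq_prime (by rw [pow_two, B.S.tt]) B.S.t_ne] at this
  have h3dvd : 3 ∣ cz b := ob ▸ cz_self
  have h4 : ¬ 4 ∣ cz b := by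
    intro h4
    have : Fact (Nat.Prime 2) := ⟨Nat.prime_two⟩
    set H := centralizer ({b} : Set G) with hH
    obtain ⟨P, hP⟩ := (IsPGroup.of_card (n := 1) (by
      rw [Nat.card_zpowers, orderOf_mk, orderOf_eq_prime (by rw [pow_two, B.S.tt]) B.S.t_ne, pow_one]) :
      IsPGroup 2 (zpowers (⟨B.S.φ zc, mem_centralizer_singleton_iff.2 htb⟩ : H))).exists_le_sylow
    obtain ⟨Pbig, hbig⟩ := (P.2.map H.subtype).exists_le_sylow
    have hfac : (Nat.card G).factorization 2 = 3 := by
      rw [hcard]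
      refine le_antisymm ?_ ((Nat.Prime.pow_dvd_iff_le_factorization Nat.prime_two (by norm_num)).1 (by norm_num))
      by_contra h
      exact absurd ((Nat.Prime.pow_dvd_iff_le_factorization Nat.prime_two (by norm_num)).2 (not_le.1 h))
        (by norm_num)
    let Q : Sylow 2 G := Sylow.ofCard (psiG B.S).range (by
      rw [hfac, ← Nat.card_congr (MonoidHom.ofInjective (psi_inj B.S)).toEquiv, Nat.card_eq_fintype_card]
      decide +kernel)
    obtain ⟨g, hg⟩ := MulAction.exists_smul_eq G Q Pbig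
    have hmemQ : ∀ x ∈ (Pbig : Subgroup G), ∃ v, g * psiG B.S v * g⁻¹ = x := by
      intro x hx
      rw [← hg, Sylow.coe_subgroup_smul] at hx
      obtain ⟨_, ⟨v, rfl⟩, rfl⟩ := hx
      exact ⟨v, rfl⟩
    have htP : B.S.φ zc ∈ (Pbig : Subgroup G) := hbig ⟨_, hP (mem_zpowers _), rfl⟩
    obtain ⟨v0, hv0⟩ := hmemQ _ htP
    have hall : ∀ x ∈ (P : Subgroup H), (x : G) = 1 ∨ (x : G) = B.S.φ zc := by
      intro x hx
      obtain ⟨v, hv'⟩ := hmemQ _ (hbig ⟨x, hx, rfl⟩)
      have hv : g * psiG B.S v * g⁻¹ = (x : G) := hv'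
      have hxt : (x : G) * B.S.φ zc = B.S.φ zc * x := by
        have hvv : psiG B.S v * psiG B.S v0 = psiG B.S v0 * psiG B.S v := by rw [← map_mul, ← map_mul, mul_comm]
        calc (x : G) * B.S.φ zc = g * (psiG B.S v * psiG B.S v0) * g⁻¹ := by rw [← hv0, ← hv]; group
          _ = B.S.φ zc * x := by rw [hvv, ← hv0, ← hv]; group
      obtain ⟨k, hk⟩ := B.S.exists_pre hxt
      have hkb : k * kB = kB * k := B.S.inj (by
        rw [map_mul, map_mul, hk]; exact mem_centralizer_singleton_iff.1 x.2)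
      have hk2 : k * k = 1 := B.S.inj (by
        rw [map_mul, map_one, hk, ← hv]
        calc g * psiG B.S v * g⁻¹ * (g * psiG B.S v * g⁻¹) = g * (psiG B.S v * psiG B.S v) * g⁻¹ := by group
          _ = 1 := by rw [← map_mul, V_sq.1, map_one]; group)
      rcases cent_b_two k hkb hk2 with e | e
      · exact Or.inl (by rw [← hk, e, map_one])
      · exact Or.inr (by rw [← hk, e])
    have hle : Nat.card (P : Subgroup H) ≤ Nat.card Bool := by
      refine Nat.card_le_card_of_injective (fun x => decide (((x : H) : G) = 1)) fun x y hxy => ?_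
      have hxy' := decide_eq_decide.1 hxy
      rcases hall x x.2 with e | e <;> rcases hall y y.2 with e' | e'
      · exact Subtype.ext (Subtype.ext (e.trans e'.symm))
      · exact absurd (e'.symm.trans (hxy'.1 e)) B.S.t_ne
      · exact absurd (e.symm.trans (hxy'.2 e')) B.S.t_ne
      · exact Subtype.ext (Subtype.ext (e.trans e'.symm))
    have : 4 ≤ Nat.card (P : Subgroup H) := Nat.le_of_dvd Nat.card_pos (P.pow_dvd_card_of_pow_dvd_card (n := 2) h4)
    simp at hle
    omega
  obtain ⟨k, hk⟩ : 6 ∣ cz b := Nat.Coprime.mul_dvd_of_dvd_of_dvd (by norm_num : Nat.Coprime 2 3) h2dvd h3dvd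
  have hdvd : cz b ∣ 175560 := hcard ▸ card_subgroup_dvd_card _
  rw [hk] at hdvd
  have h1 : k ∣ 2 ^ 2 * (7 ^ 1 * (11 ^ 1 * 95)) := (Nat.mul_dvd_mul_iff_left (by norm_num : 0 < 6)).1 hdvd
  have hk95 : k ∣ 95 := dvd_drop (by norm_num) (fun h => h3_11 (hk ▸ h.mul_left 6))
    (dvd_drop (by norm_num) (fun h => by
      have := cz_symm hcard (by norm_num) (by norm_num) ob hd (hk ▸ h.mul_left 6)
      rw [hcd] at this; norm_num at this)
    (dvd_drop Nat.prime_two (fun h => h4 (by rw [hk]; obtain ⟨m, rfl⟩ := h; exact ⟨3 * m, by ring⟩)) h1))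
  obtain ⟨e, n, hprod, he, hn, -, heq⟩ := prime_local hcard (by norm_num) (by norm_num) ob
  have hsN : B.S.φ kS ∈ normalizer (zpowers b : Set G) := by
    have hle : (zpowers b).map (MulAut.conj (B.S.φ kS)).toMonoidHom ≤ zpowers b := by
      rw [MonoidHom.map_zpowers, zpowers_le, show (MulAut.conj (B.S.φ kS)).toMonoidHom b = _ from hsb]
      exact inv_mem (mem_zpowers _)
    have heq' := eq_of_le_of_card_ge hle (le_of_eq (card_map_of_injective (MulAut.conj (B.S.φ kS)).injective).symm)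
    rw [Subgroup.mem_normalizer_iff]
    intro x
    constructor
    · intro hx; rw [← heq']; exact ⟨x, hx, rfl⟩
    · intro hx
      rw [← heq'] at hx
      obtain ⟨x', hx', e⟩ := hx
      rwa [← (MulAut.conj (B.S.φ kS)).injective (e.trans (MulAut.conj_apply _ _).symm)]
  have he2 : e = 2 := by
    have h2e : 2 ∣ e := by
      refine range_order Nat.prime_two hsN (by rw [pow_two, ← map_mul, model_facts.2.2.2.2.1, map_one]) ?_ heq
      intro hcm
      have h := hsb
      rw [hcm, mul_inv_cancel_right, eq_inv_iff_mul_eq_one, ← pow_two] at h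
      have := orderOf_dvd_of_pow_eq_one h
      rw [ob] at this
      norm_num at this
    exact Nat.le_antisymm (Nat.le_of_dvd (by norm_num) he) (Nat.le_of_dvd (Nat.pos_of_ne_zero fun h0 => by
      rw [h0] at he; norm_num at he) h2e)
  subst he2
  rcases arith_three k (Nat.lt_succ_of_le (Nat.le_of_dvd (by norm_num) hk95)) hk95 ⟨n, by rw [hprod, hk]⟩
    (quot_mod (by rw [hprod, hk]) (by norm_num) hn) with rfl | rfl
  · rw [hk]
  exfalso
  set H := centralizer ({b} : Set G) with hH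
  have hH570 : Nat.card H = 570 := hk
  obtain ⟨y, hy⟩ := exists_prime_orderOf_dvd_card' (G := H) 19 (by rw [hH570]; norm_num)
  let Q : Sylow 19 H := Sylow.ofCard (zpowers y) (zpowers_card hH570 (by norm_num) (by norm_num) hy)
  have hidx : (Q : Subgroup H).index = 30 := by
    have := Subgroup.card_mul_index (Q : Subgroup H)
    rw [hH570, show Nat.card (Q : Subgroup H) = 19 from (Nat.card_zpowers y).trans hy] at this
    omega
  have hn19 : Nat.card (Sylow 19 H) = 1 := by
    have hd := Q.card_dvd_index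
    rw [hidx] at hd
    have hm : Nat.card (Sylow 19 H) % 19 = 1 := card_sylow_modEq_one 19 H
    exact (show ∀ n < 31, n ∣ 30 → n % 19 = 1 → n = 1 by decide +kernel) _
      (Nat.lt_succ_of_le (Nat.le_of_dvd (by norm_num) hd)) hd hm
  have hnorm : normalizer ((Q : Subgroup H) : Set H) = ⊤ := by
    rw [Sylow.card_eq_index_normalizer Q] at hn19
    exact index_eq_one.1 hn19
  have hy' : orderOf (y : G) = 19 := by rw [orderOf_coe]; exact hy
  have hle : H ≤ normalizer (zpowers (y : G) : Set G) := by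
    have hle1 : ∀ x : H, ∀ a ∈ zpowers (y : G), (x : G) * a * (x : G)⁻¹ ∈ zpowers (y : G) := by
      intro x a ha
      obtain ⟨j, rfl⟩ := mem_zpowers_iff.1 ha
      have hx : x ∈ normalizer ((Q : Subgroup H) : Set H) := hnorm ▸ mem_top x
      obtain ⟨i, hi⟩ := mem_zpowers_iff.1 ((Subgroup.mem_normalizer_iff.1 hx (y ^ j)).1 ⟨j, rfl⟩)
      exact ⟨i, congrArg Subtype.val hi⟩
    intro x hx
    rw [Subgroup.mem_normalizer_iff]
    refine fun a => ⟨hle1 ⟨x, hx⟩ a, fun ha => ?_⟩
    have := hle1 ⟨x⁻¹, inv_mem hx⟩ _ ha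
    simpa [mul_assoc] using this
  obtain ⟨e', n', -, -, -, hN', -⟩ := prime_local hcard (by norm_num) (by norm_num) hy'
  have h114 : Nat.card (normalizer (zpowers (y : G) : Set G)) = 114 := by
    let Q1 : Sylow 19 G := Sylow.ofCard (zpowers (y : G)) (zpowers_card hcard (by norm_num) (by norm_num) hy')
    let Q2 : Sylow 19 G := Sylow.ofCard (zpowers y19) (zpowers_card hcard (by norm_num) (by norm_num) hy19)
    have e1 := Sylow.card_eq_index_normalizer Q1
    have e2 := Sylow.card_eq_index_normalizer Q2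
    have m1 := Subgroup.card_mul_index (normalizer (zpowers (y : G) : Set G))
    have m2 := Subgroup.card_mul_index (normalizer (zpowers y19 : Set G))
    rw [show (normalizer (zpowers (y : G) : Set G)).index = (normalizer (zpowers y19 : Set G)).index from e1.symm.trans e2,
      ← m2] at m1
    rw [← hN19]
    exact mul_right_cancel₀ Subgroup.index_ne_zero_of_finite m1
  have := Nat.le_of_dvd (by norm_num) (h114 ▸ card_dvd_of_le hle)
  omega

end Cfsg.Lib.JankoOne.Iso
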