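import Cfsg.Agent.JankoOne.Iso.Count

/-!
The involution inverting the element of order seven, the element of order five, and the eight cases of relations.
-/

set_option autoImplicit false
set_option linter.unusedSectionVars false

namespace Cfsg.Lib.JankoOne.Iso

open Subgroup

universe u

variable {G : Type u} [Group G] [Finite G]

/-- All data for the relations. -/
structure Frame (G : Type u) [Group G] where
  B : Base G
  z : G
  z_sq : z * z = 1
  z_b : B.S.φ kB * z = z * B.S.φ kB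
  z_d : z * B.d * z = B.d⁻¹
  f_pow : (B.S.φ zc * z) ^ 5 = 1
  f_ne : B.S.φ zc * z ≠ 1

theorem exists_z (B : Base G) (hcard : Nat.card G = 175560) :
    ∃ z : G, z * z = 1 ∧ B.S.φ kB * z = z * B.S.φ kB ∧ z * B.d * z = B.d⁻¹ := by
  have h7 : Fact (Nat.Prime 7) := ⟨by norm_num⟩
  obtain ⟨hcd, h, hh, hinv⟩ := cz_d B hcard
  have hhi : h⁻¹ = h := inv_eq_of_mul_eq_one_left hh
  set b := B.S.φ kB with hb
  set d := B.d with hd
  have hdo : orderOf d = 7 := orderOf_eq_prime B.d_pow B.d_ne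
  have hC : zpowers d = centralizer ({d} : Set G) :=
    eq_of_le_of_card_ge (zpowers_le.2 (mem_centralizer_singleton_iff.2 rfl))
      (le_of_eq (by rw [Nat.card_zpowers, hdo]; exact hcd))
  have hb3 : b * b * b = 1 := by
    rw [hb, ← map_mul, ← map_mul, ← map_one B.S.φ]
    congr 1
    rw [← model_facts.2.2.2.2.2.2.2.2.2.1, pow_succ, pow_two]
  have hbd : b * d * b⁻¹ = d * d := B.bd
  -- conjugation by `b⁻¹` sends `d` to its fourth power
  have hb4 : b⁻¹ * d * b = d ^ 4 := by
    calc b⁻¹ * d * b = (b * b) * d * (b * b)⁻¹ := by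
          rw [show b⁻¹ = b * b from inv_eq_of_mul_eq_one_left hb3]
          congr 1
          exact (inv_eq_of_mul_eq_one_left (by rw [← mul_assoc]; exact hb3)).symm
      _ = b * (b * d * b⁻¹) * b⁻¹ := by group
      _ = b * (d * d) * b⁻¹ := by rw [hbd]
      _ = (b * d * b⁻¹) * (b * d * b⁻¹) := by group
      _ = d ^ 4 := by rw [hbd]; simp only [pow_succ, pow_zero, one_mul, mul_assoc]
  set h' := b * h * b⁻¹ with hh'
  have hinv' : h' * d * h'⁻¹ = d⁻¹ := by
    calc h' * d * h'⁻¹ = b * (h * (b⁻¹ * d * b) * h⁻¹) * b⁻¹ := by rw [hh']; group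
      _ = b * ((h * d * h⁻¹) ^ 4) * b⁻¹ := by rw [hb4, conj_pow]
      _ = (b * (b⁻¹ * d * b) * b⁻¹)⁻¹ := by rw [hinv, hb4, inv_pow]; group
      _ = d⁻¹ := by group
  have hcomm : (h' * h) * d = d * (h' * h) := by
    rw [← mul_inv_eq_iff_eq_mul]
    calc h' * h * d * (h' * h)⁻¹ = h' * (h * d * h⁻¹) * h'⁻¹ := by group
      _ = (h' * d * h'⁻¹)⁻¹ := by rw [hinv]; group
      _ = d := by rw [hinv', inv_inv]
  obtain ⟨m, hm⟩ := mem_powers_iff_mem_zpowers.2 (show h' * h ∈ zpowers d by
    rw [hC, mem_centralizer_singleton_iff]; exact hcomm)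
  have hh'' : h' = d ^ m * h := by
    rw [show d ^ m = h' * h from hm, mul_assoc, hh, mul_one]
  have hhd : ∀ j : ℕ, h * d ^ j * h = (d ^ j)⁻¹ := fun j => by
    calc h * d ^ j * h = (h * d * h⁻¹) ^ j := by rw [conj_pow, hhi]
      _ = _ := by rw [hinv, inv_pow]
  refine ⟨d ^ (6 * m) * h, ?_, ?_, ?_⟩
  · calc d ^ (6 * m) * h * (d ^ (6 * m) * h) = d ^ (6 * m) * (h * d ^ (6 * m) * h) := by group
      _ = 1 := by rw [hhd, mul_inv_cancel]
  · rw [← mul_inv_eq_iff_eq_mul]
    calc b * (d ^ (6 * m) * h) * b⁻¹ = (b * d * b⁻¹) ^ (6 * m) * h' := by rw [conj_pow, hh']; group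
      _ = d ^ (13 * m) * h := by
        rw [hh'', B.bd, ← pow_two, ← pow_mul, ← mul_assoc, ← pow_add]
        congr 2
        ring
      _ = d ^ (6 * m) * h := by
        rw [show 13 * m = 7 * m + 6 * m by ring, pow_add, pow_mul, B.d_pow, one_pow, one_mul]
  · calc d ^ (6 * m) * h * d * (d ^ (6 * m) * h) = d ^ (6 * m) * (h * d ^ (1 + 6 * m) * h) := by
          rw [pow_add, pow_one]; group
      _ = d⁻¹ := by rw [hhd, pow_add, pow_one, mul_inv_rev, mul_inv_cancel_left]

theorem exists_frame (B : Base G) (hcard : Nat.card G = 175560) : Nonempty (Frame G) := by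
  have h3 : Fact (Nat.Prime 3) := ⟨Nat.prime_three⟩
  obtain ⟨z, hzz, hzb, hzd⟩ := exists_z B hcard
  set t := B.S.φ zc with ht
  set b := B.S.φ kB with hb
  have htt : t * t = 1 := B.S.tt
  have ob : orderOf b = 3 := (order_three B.S).2.2
  have htb : t * b = b * t := by rw [ht, hb, ← map_mul, ← map_mul, zc_comm]
  have hzt : z ≠ t := by
    intro e
    have h1 : t * B.d * t = B.d⁻¹ := by rw [← e]; exact hzd
    -- then the square of `d` would normalise the four group trivially on `t`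
    have h2 : B.d * t = t * B.d⁻¹ := by
      rw [← h1, ← mul_assoc, ← mul_assoc, htt, one_mul]
    have hact := B.act eT
    rw [iotaK_gens.1] at hact
    rw [hact, ← eq_mul_inv_iff_mul_eq] at h2
    have h3 : psiG B.S (actD eT) = t * (B.d ^ 5) := by
      show B.S.φ _ = _
      rw [h2, mul_assoc, ← mul_inv_rev, ← inv_eq_of_mul_eq_one_left (show B.d ^ 5 * (B.d * B.d) = 1 by
        rw [← pow_two, ← pow_add, B.d_pow])]
    have h4 : psiG B.S (eT * actD eT) = B.d ^ 5 := by
      rw [map_mul, h3, show psiG B.S eT = t from congrArg B.S.φ iotaK_gens.1, ← mul_assoc, htt, one_mul]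
    have h5 : (psiG B.S (eT * actD eT)) ^ 2 = 1 := by rw [pow_two, ← map_mul, V_sq.1, map_one]
    rw [h4, ← pow_mul] at h5
    apply B.d_ne
    calc B.d = B.d ^ (5 * 2) * B.d ^ (5 * 2) * B.d ^ (5 * 2) * B.d ^ (5 * 2) * B.d ^ (5 * 2) := by
          simp only [← pow_add]
          rw [show 5 * 2 + 5 * 2 + 5 * 2 + 5 * 2 + 5 * 2 = 7 * 7 + 1 from rfl, pow_add, pow_mul, B.d_pow, one_pow,
            one_mul, pow_one]
      _ = 1 := by rw [h5]; group
  have hcomm_cases : ∀ x : G, x * t = t * x → x * b = b * x → x * x = 1 → x = 1 ∨ x = t := by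
    intro x hxt hxb hxx
    obtain ⟨k, hk⟩ := B.S.exists_pre hxt
    rcases cent_b_two k (B.S.inj (by rw [map_mul, map_mul, hk]; exact hxb))
      (B.S.inj (by rw [map_mul, map_one, hk]; exact hxx)) with e | e
    · exact Or.inl (by rw [← hk, e, map_one])
    · exact Or.inr (by rw [← hk, e])
  have hz1 : z ≠ 1 := fun e => by
    rw [e, one_mul, mul_one, eq_inv_iff_mul_eq_one, ← pow_two] at hzd
    have := orderOf_dvd_of_pow_eq_one hzd
    have h7 : Fact (Nat.Prime 7) := ⟨by norm_num⟩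
    rw [orderOf_eq_prime B.d_pow B.d_ne] at this
    norm_num at this
  set f := t * z with hf
  have hfne : f ≠ 1 := fun e => hzt (by
    rw [← one_mul z, ← htt, mul_assoc, ← hf, e, mul_one])
  have hbf : f * b = b * f := by rw [hf, mul_assoc, ← hzb, ← mul_assoc, htb, mul_assoc]
  have hzi : z⁻¹ = z := inv_eq_of_mul_eq_one_left hzz
  have hti : t⁻¹ = t := inv_eq_of_mul_eq_one_left htt
  have htf : t * f * t = f⁻¹ := by rw [hf, mul_inv_rev, hzi, hti, ← mul_assoc, htt, one_mul]
  have h30 : f ^ 30 = 1 := by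
    have h := orderOf_dvd_natCard (⟨f, mem_centralizer_singleton_iff.2 hbf⟩ : centralizer ({b} : Set G))
    rw [orderOf_mk, show Nat.card _ = cz b from rfl, cz_b B hcard] at h
    exact orderOf_dvd_iff_pow_eq_one.1 h
  have h15 : f ^ 15 = 1 := by
    have hti15 : t * f ^ 15 * t = f ^ 15 := by
      calc t * f ^ 15 * t = (t * f * t⁻¹) ^ 15 := by rw [conj_pow, hti]
        _ = (f ^ 15)⁻¹ := by rw [hti, htf, inv_pow]
        _ = f ^ 15 := inv_eq_of_mul_eq_one_left (by rw [← pow_add]; exact h30)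
    have hxt : f ^ 15 * t = t * f ^ 15 := by
      calc f ^ 15 * t = t * f ^ 15 * t * t := by rw [hti15]
        _ = t * f ^ 15 := by rw [mul_assoc, htt, mul_one]
    rcases hcomm_cases _ hxt ((show Commute f b from hbf).pow_left 15).eq (by rw [← pow_add]; exact h30) with e | e
    · exact e
    · exfalso
      have h1 : t * f = f * t := by
        rw [← e, ← pow_succ, ← pow_succ']
      rw [h1, mul_assoc, htt, mul_one] at htf
      have hzt' : z * t = t * z := by
        have : (t * z)⁻¹ = t * z := by rw [← hf]; exact htf.symm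
        rw [mul_inv_rev, hzi, hti] at this
        exact this
      rcases hcomm_cases z hzt' hzb.symm hzz with e1 | e1
      · exact hz1 e1
      · exact hzt e1
  have h5 : f ^ 5 = 1 := by
    set H := centralizer ({b} : Set G) with hH
    have hH30 : Nat.card H = 30 := cz_b B hcard
    let bH : H := ⟨b, mem_centralizer_singleton_iff.2 rfl⟩
    have hboH : orderOf bH = 3 := by rw [orderOf_mk]; exact ob
    let Q : Sylow 3 H := Sylow.ofCard (zpowers bH) (zpowers_card hH30 (by norm_num) (by norm_num) hboH)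
    have hnorm : normalizer ((Q : Subgroup H) : Set H) = ⊤ := by
      rw [eq_top_iff]
      intro x _
      rw [Subgroup.mem_normalizer_iff]
      intro a
      have hc : ∀ a ∈ (Q : Subgroup H), x * a = a * x := by
        intro a ha
        obtain ⟨i, rfl⟩ := mem_zpowers_iff.1 ha
        exact (Commute.zpow_right (show Commute x bH from Subtype.ext (mem_centralizer_singleton_iff.1 x.2)) i).eq
      constructor
      · intro ha; rw [hc a ha, mul_inv_cancel_right]; exact ha
      · intro ha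
        have := hc _ ha
        have e : x * a * x⁻¹ = a := by
          calc x * a * x⁻¹ = x⁻¹ * (x * (x * a * x⁻¹)) := by group
            _ = a := by rw [this]; group
        rwa [e] at ha
    have hn : (Q : Subgroup H).Normal := normalizer_eq_top_iff.1 hnorm
    let F : H := ⟨f ^ 5, mem_centralizer_singleton_iff.2 ((show Commute f b from hbf).pow_left 5).eq⟩
    obtain ⟨T, hT⟩ := (IsPGroup.of_card (p := 3) (n := (Nat.card (zpowers F)).factorization 3) (by
      have hd : Nat.card (zpowers F) ∣ 3 := by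
        rw [Nat.card_zpowers]
        exact orderOf_dvd_of_pow_eq_one (Subtype.ext (by show (f ^ 5) ^ 3 = 1; rw [← pow_mul]; exact h15))
      rcases (Nat.dvd_prime Nat.prime_three).1 hd with e | e <;> rw [e] <;> simp [Nat.prime_three.factorization]) :
      IsPGroup 3 (zpowers F)).exists_le_sylow
    obtain ⟨g, rfl⟩ := MulAction.exists_smul_eq H Q T
    have hFQ : F ∈ (Q : Subgroup H) := by
      have := hT (mem_zpowers F)
      rwa [Sylow.smul_eq_iff_mem_normalizer.2 (hnorm ▸ mem_top g)] at this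
    obtain ⟨i, hi⟩ := mem_zpowers_iff.1 hFQ
    have hi' : b ^ i = f ^ 5 := by simpa [F, bH] using congrArg Subtype.val hi
    have hinv : (f ^ 5)⁻¹ = f ^ 5 := by
      calc (f ^ 5)⁻¹ = (t * f * t) ^ 5 := by rw [htf, inv_pow]
        _ = t * f ^ 5 * t := by nth_rewrite 2 [← hti]; rw [conj_pow, hti]
        _ = f ^ 5 := by rw [← hi', (Commute.zpow_right (show Commute t b from htb) i).eq, mul_assoc, htt, mul_one]
    calc f ^ 5 = f ^ 15 * (f ^ 5 * f ^ 5)⁻¹ := by group
      _ = 1 := by rw [h15, mul_inv_rev, hinv, one_mul, inv_eq_iff_mul_eq_one.1 hinv]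
  exact ⟨⟨B, z, hzz, hzb, hzd, h5, hfne⟩⟩

theorem Frame.commuting (F : Frame G) (hcard : Nat.card G = 175560) :
    ∃ kX : K, (kX = kS ∨ kX = zc * kS) ∧
      F.B.S.φ kX * (F.B.S.φ zc * F.z) = (F.B.S.φ zc * F.z) * F.B.S.φ kX := by
  have h5 : Fact (Nat.Prime 5) := ⟨by norm_num⟩
  set t := F.B.S.φ zc with ht
  set b := F.B.S.φ kB with hb
  set s := F.B.S.φ kS with hs
  set f := t * F.z with hf
  have hss : s * s = 1 := by rw [hs, ← map_mul, model_facts.2.2.2.2.1, map_one]
  have hsi : s⁻¹ = s := inv_eq_of_mul_eq_one_left hss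
  have htt : t * t = 1 := F.B.S.tt
  have hti : t⁻¹ = t := inv_eq_of_mul_eq_one_left htt
  have hst : s * t = t * s := by rw [hs, ht, ← map_mul, ← map_mul, zc_comm]
  have hsb : s * b * s = b⁻¹ := by rw [hs, hb, ← map_inv, ← map_mul, ← map_mul, model_facts.2.2.2.2.2.1]
  have hzi : F.z⁻¹ = F.z := inv_eq_of_mul_eq_one_left F.z_sq
  have htb : t * b = b * t := by rw [ht, hb, ← map_mul, ← map_mul, zc_comm]
  have hbf : f * b = b * f := by rw [hf, mul_assoc, ← F.z_b, ← mul_assoc, htb, mul_assoc]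
  have htf : t * f * t = f⁻¹ := by rw [hf, mul_inv_rev, hzi, hti, ← mul_assoc, htt, one_mul]
  set H := centralizer ({b} : Set G) with hH
  have hH30 : Nat.card H = 30 := cz_b F.B hcard
  let fH : H := ⟨f, mem_centralizer_singleton_iff.2 hbf⟩
  have hfo : orderOf fH = 5 := by rw [orderOf_mk]; exact orderOf_eq_prime F.f_pow F.f_ne
  let Q : Sylow 5 H := Sylow.ofCard (zpowers fH) (zpowers_card hH30 (by norm_num) (by norm_num) hfo)
  have hsf : s * f * s ∈ H := by
    rw [mem_centralizer_singleton_iff]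
    calc s * f * s * b = s * (f * (s * b * s)) * s := by simp only [mul_assoc, hss, mul_one]
      _ = s * ((s * b * s) * f) * s := by
        rw [hsb, (Commute.inv_right (show Commute f b from hbf)).eq]
      _ = b * (s * f * s) := by simp only [mul_assoc]; rw [← mul_assoc s s, hss, one_mul]
  have hone : Nat.card (Sylow 5 H) = 1 := by
    rw [Sylow.card_eq_index_normalizer Q]
    set N := normalizer ((Q : Subgroup H) : Set H) with hN
    have hbN : (⟨b, mem_centralizer_singleton_iff.2 rfl⟩ : H) ∈ N := by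
      rw [hN, Subgroup.mem_normalizer_iff]
      intro a
      have hc : (⟨b, mem_centralizer_singleton_iff.2 rfl⟩ : H) * a = a * ⟨b, mem_centralizer_singleton_iff.2 rfl⟩ :=
        Subtype.ext (mem_centralizer_singleton_iff.1 a.2).symm
      rw [hc, mul_inv_cancel_right]
    have d3 : 3 ∣ Nat.card N := by
      have := orderOf_dvd_natCard (⟨_, hbN⟩ : N)
      rwa [orderOf_mk, orderOf_mk, hb, (order_three F.B.S).2.2] at this
    have d5 : 5 ∣ Nat.card N := by
      refine dvd_trans ?_ (card_dvd_of_le (le_normalizer : (Q : Subgroup H) ≤ N))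
      exact dvd_of_eq (by rw [show Nat.card (Q : Subgroup H) = orderOf fH from Nat.card_zpowers fH, hfo])
    obtain ⟨c, hc⟩ : 15 ∣ Nat.card N := Nat.Coprime.mul_dvd_of_dvd_of_dvd (by norm_num : Nat.Coprime 3 5) d3 d5
    have hmul := Subgroup.card_mul_index N
    rw [hH30, hc] at hmul
    have hm : Nat.card (Sylow 5 H) % 5 = 1 := card_sylow_modEq_one 5 H
    rw [Sylow.card_eq_index_normalizer Q] at hm
    have hd : N.index ∣ 2 := ⟨c, by nlinarith⟩
    rcases (Nat.dvd_prime Nat.prime_two).1 hd with e | e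
    · exact e
    · exfalso; change N.index % 5 = 1 at hm; omega
  have : Subsingleton (Sylow 5 H) := (Nat.card_eq_one_iff_unique.1 hone).1
  let qH : H := ⟨s * f * s, hsf⟩
  have hqo : orderOf qH = 5 := by
    rw [orderOf_mk]
    conv_lhs => rw [show s * f * s = (MulAut.conj s).toMonoidHom f by simp [hsi]]
    rw [orderOf_injective _ (MulAut.conj s).injective]
    exact orderOf_eq_prime F.f_pow F.f_ne
  let Q' : Sylow 5 H := Sylow.ofCard (zpowers qH) (zpowers_card hH30 (by norm_num) (by norm_num) hqo)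
  have hmem : qH ∈ (Q : Subgroup H) := by
    rw [Subsingleton.elim Q Q']; exact mem_zpowers qH
  obtain ⟨i, hi⟩ := mem_powers_iff_mem_zpowers.2 (show qH ∈ zpowers fH from hmem)
  have hi' : f ^ i = s * f * s := congrArg Subtype.val hi
  have hfo' : orderOf f = 5 := orderOf_eq_prime F.f_pow F.f_ne
  rw [← pow_mod_orderOf, hfo'] at hi'
  have h2 : f ^ (i % 5 * (i % 5)) = f := by
    rw [pow_mul, hi']
    calc (s * f * s) ^ (i % 5) = (s * f * s⁻¹) ^ (i % 5) := by rw [hsi]
      _ = s * (s * f * s) * s := by rw [conj_pow, hi', hsi]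
      _ = f := by simp only [mul_assoc, hss, mul_one]; rw [← mul_assoc, hss, one_mul]
  have hmod : i % 5 * (i % 5) % 5 = 1 := by
    have := (pow_inj_mod (x := f) (n := i % 5 * (i % 5)) (m := 1)).1 (by rw [h2, pow_one])
    rw [hfo'] at this
    omega
  have hlt : i % 5 < 5 := Nat.mod_lt _ (by norm_num)
  interval_cases hv : i % 5
  all_goals first | omega | skip
  · refine ⟨kS, Or.inl rfl, ?_⟩
    rw [pow_one] at hi'
    rw [← hs]
    nth_rewrite 1 [hi']
    simp only [mul_assoc]
    rw [← mul_assoc s s, hss, one_mul]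
  · refine ⟨zc * kS, Or.inr rfl, ?_⟩
    have hneg : s * f * s = f⁻¹ := by rw [← hi', eq_inv_iff_mul_eq_one, ← pow_succ, F.f_pow]
    rw [map_mul, ← ht, ← hs]
    have e : t * s * f * (t * s)⁻¹ = f := by
      calc t * s * f * (t * s)⁻¹ = t * (s * f * s) * t := by rw [mul_inv_rev, hti, hsi]; group
        _ = (t⁻¹ * f * t⁻¹)⁻¹ := by rw [hneg]; group
        _ = f := by rw [hti, htf, inv_inv]
    exact mul_inv_eq_iff_eq_mul.1 e

theorem Frame.third (F : Frame G) {kX : K} (hX : kX = kS ∨ kX = zc * kS)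
    (hc : F.B.S.φ kX * (F.B.S.φ zc * F.z) = (F.B.S.φ zc * F.z) * F.B.S.φ kX) :
    let t := F.B.S.φ zc; let w := F.B.S.φ kW; let x := F.B.S.φ kX; let f := F.B.S.φ zc * F.z
    (w * f) ^ 3 = 1 ∨ (x * w * f) ^ 3 = 1 ∨ (t * w * f) ^ 3 = 1 ∨ (x * t * w * f) ^ 3 = 1 := by
  intro t w x f
  set S := F.B.S
  have hxx : kX * kX = 1 ∧ kW * kX = kX * kW ∧ kX ≠ 1 := by rcases hX with rfl | rfl <;> decide +kernel
  obtain ⟨hax, hw1, hwx, hwt, hwtx⟩ := model_apart kX hX
  obtain ⟨g, hg⟩ := isConj_iff.1 (S.conj x (by rw [← map_mul, hxx.1, map_one])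
    (fun e => hxx.2.2 (S.inj (e.trans (map_one _).symm))))
  have pull : ∀ y : G, y * x = x * y → ∃ k : K, S.φ k = g⁻¹ * y * g := fun y hy =>
    S.exists_pre (by
      rw [← hg] at hy
      calc g⁻¹ * y * g * S.φ zc = g⁻¹ * (y * (g * S.φ zc * g⁻¹)) * g := by group
        _ = S.φ zc * (g⁻¹ * y * g) := by rw [hy]; group)
  have htx : t * x = x * t := by simp only [t, x, ← map_mul, zc_comm]
  obtain ⟨T, hT⟩ := pull t htx
  obtain ⟨W, hW⟩ := pull w (by simp only [w, x, ← map_mul, hxx.2.1])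
  obtain ⟨Φ, hΦ⟩ := pull f hc.symm
  have back : ∀ (k : K) (y : G), S.φ k = g⁻¹ * y * g → y = g * S.φ k * g⁻¹ := fun k y h => by rw [h]; group
  have htG := back T t hT
  have hwG := back W w hW
  have hfG := back Φ f hΦ
  have hxG : x = g * S.φ zc * g⁻¹ := hg.symm
  have lift : ∀ k k' : K, g * S.φ k * g⁻¹ = g * S.φ k' * g⁻¹ → k = k' := fun k k' h =>
    S.inj (mul_left_cancel (mul_right_cancel h))
  have cm : ∀ k k' : K, g * S.φ k * g⁻¹ * (g * S.φ k' * g⁻¹) = g * S.φ (k * k') * g⁻¹ := fun k k' => by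
    rw [map_mul]; group
  have cp : ∀ (k : K) (n : ℕ), (g * S.φ k * g⁻¹) ^ n = g * S.φ (k ^ n) * g⁻¹ := fun k n => by
    rw [conj_pow, map_pow]
  have c1 : g * S.φ 1 * g⁻¹ = 1 := by rw [map_one]; group
  have ne_cases : ∀ k : K, k.2 = 1 → k = 1 ∨ k = zc := fun k h => by
    rcases fst_sq k.1 with e | e
    · exact Or.inl (Prod.ext e h)
    · exact Or.inr (Prod.ext e h)
  have hTT : T * T = 1 := lift _ _ (by rw [← cm, ← htG, c1]; exact S.tt)
  have hWW : W * W = 1 := lift _ _ (by
    rw [← cm, ← hwG, c1]; simp only [w, ← map_mul, model_facts.2.2.2.1, map_one])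
  have hTW : T * W = W * T := lift _ _ (by
    rw [← cm, ← cm, ← htG, ← hwG]; simp only [t, w, ← map_mul, zc_comm])
  have hT1 : T.2 ≠ 1 := fun h => by
    rcases ne_cases T h with e | e
    · rw [e, c1] at htG; exact S.t_ne htG
    · rw [e, ← hxG] at htG; exact hax (S.inj htG)
  have hW1 : W.2 ≠ 1 := fun h => by
    rcases ne_cases W h with e | e
    · rw [e, c1] at hwG; exact hw1 (S.inj (hwG.trans (map_one _).symm))
    · rw [e, ← hxG] at hwG; exact hwx (S.inj hwG)
  have hWT : W.2 ≠ T.2 := fun h => by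
    rcases ne_cases (T * W) (by
      rw [Prod.snd_mul, h, ← Prod.snd_mul, hTT]; rfl) with e | e
    · have h1 : t * w = 1 := by rw [htG, hwG, cm, e, c1]
      refine hwt (S.inj ?_)
      calc S.φ kW = t * (t * w) := by rw [← mul_assoc, S.tt, one_mul]
        _ = _ := by rw [h1, mul_one]
    · have h1 : t * w = x := by rw [htG, hwG, cm, e, hxG]
      refine hwtx (S.inj ?_)
      calc S.φ kW = t * (t * w) := by rw [← mul_assoc, S.tt, one_mul]
        _ = _ := by rw [h1, map_mul]
  have htft : t * f * t = f⁻¹ := by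
    have hzi : F.z⁻¹ = F.z := inv_eq_of_mul_eq_one_left F.z_sq
    have hti : t⁻¹ = t := inv_eq_of_mul_eq_one_left S.tt
    calc t * f * t = t * t * F.z * t := by simp only [f, t]; group
      _ = F.z⁻¹ * t⁻¹ := by rw [show t * t = 1 from S.tt, one_mul, hzi, hti]
      _ = f⁻¹ := by simp only [f, t]; group
  have hΦi : g * S.φ Φ⁻¹ * g⁻¹ = f⁻¹ := by rw [hfG, map_inv]; group
  have hF5 : Φ ^ 5 = 1 := lift _ _ (by rw [← cp, ← hfG, c1]; exact F.f_pow)
  have hF1 : Φ.2 ≠ 1 := fun h => by
    rcases ne_cases Φ h with e | e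
    · rw [e, c1] at hfG; exact F.f_ne hfG
    · rw [e] at hF5; exact absurd hF5 (by decide +kernel)
  have hTFT : T * Φ * T = Φ⁻¹ := lift _ _ (by rw [← cm, ← cm, ← htG, ← hfG, hΦi]; exact htft)
  have h3 := third_rel T.2 (congrArg Prod.snd hTT) hT1 W.2 (congrArg Prod.snd hWW) hW1 hWT (congrArg Prod.snd hTW)
    Φ.2 (congrArg Prod.snd hF5) hF1 (congrArg Prod.snd hTFT)
  have hX3 : ∀ y : G, x * y = y * x → (x * y) ^ 3 = x * y ^ 3 := fun y hy => by
    rw [(show Commute x y from hy).mul_pow, pow_succ, pow_two, show x * x = 1 by rw [← map_mul, hxx.1, map_one], one_mul]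
  have concl : ∀ (k : K) (y : G), y = g * S.φ k * g⁻¹ → k.2 ^ 3 = 1 → y ^ 3 = 1 ∨ (x * y) ^ 3 = 1 := by
    intro k y hy hk
    rcases ne_cases (k ^ 3) hk with e | e
    · exact Or.inl (by rw [hy, cp, e, c1])
    · refine Or.inr ?_
      rw [hX3 y (by rw [hxG, hy, cm, cm, zc_comm]), hy, cp, e, ← hxG, ← map_mul, hxx.1, map_one]
  rcases h3 with h | h
  · rcases concl (W * Φ) (w * f) (by rw [← cm, ← hwG, ← hfG]) h with e | e
    · exact Or.inl e
    · exact Or.inr (Or.inl (by rw [mul_assoc]; exact e))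
  · rcases concl (T * W * Φ) (t * w * f) (by rw [← cm, ← cm, ← htG, ← hwG, ← hfG]) h with e | e
    · exact Or.inr (Or.inr (Or.inl e))
    · exact Or.inr (Or.inr (Or.inr (by
        rw [show x * t * w * f = x * (t * w * f) by group]; exact e)))

end Cfsg.Lib.JankoOne.Iso
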