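import Cfsg.Agent.JankoOne.Iso.Rels

/-!
The six letters generate.
-/

set_option autoImplicit false
set_option linter.unusedSectionVars false
set_option synthInstance.maxSize 2000

namespace Cfsg.Lib.JankoOne.Iso

open Subgroup Cfsg.Lib.CosetCert

universe u

variable {G : Type u} [Group G] [Finite G]

theorem orbit_all : ∀ v : V, v ≠ 1 → ∃ k : Fin 7, actD^[k] eT = v := by decide +kernel

theorem s_moves : ∀ v : V, kS * iotaK eU ≠ iotaK v * kS := by decide +kernel

theorem card_V : Nat.card V = 8 := by rw [Nat.card_eq_fintype_card]; decide +kernel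

theorem card_V_ne : Nat.card {v : V // v ≠ 1} = 7 := by rw [Nat.card_eq_fintype_card]; decide +kernel

/-- Every involution of the four group is conjugate to `t` under the element of order seven. -/
theorem conj_d (B : Base G) {v : V} (hv : v ≠ 1) :
    ∃ k : ℕ, B.d ^ k * B.S.φ zc * (B.d ^ k)⁻¹ = psiG B.S v := by
  obtain ⟨k, rfl⟩ := orbit_all v hv
  refine ⟨k, ?_⟩
  have e : psiG B.S eT = B.S.φ zc := congrArg B.S.φ iotaK_gens.1
  rw [← e, pow_act B.S B.act k eT, mul_inv_cancel_right]

/-- An involution fixing one coset of a subgroup of index `11` or `19` is an odd permutation. -/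
theorem odd_perm [IsSimpleGroup G] (S : Setup G) (M : Subgroup G) (htM : S.φ zc ∈ M)
    (hfix : ∀ g : G, g⁻¹ * S.φ zc * g ∈ M → g ∈ M) (hi : M.index = 11 ∨ M.index = 19) : False := by
  classical
  haveI := Fintype.ofFinite (G ⧸ M)
  set t := S.φ zc with ht
  let act := MulAction.toPermHom G (G ⧸ M)
  let χ : G →* ℤˣ := Equiv.Perm.sign.comp act
  have hone : χ t = 1 := by
    rcases χ.normal_ker.eq_bot_or_eq_top with h | h
    · have hinj := χ.ker_eq_bot_iff.1 h
      have h1 := Nat.card_le_card_of_injective χ hinj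
      have h8 := Nat.le_of_dvd Nat.card_pos S.eight
      rw [Nat.card_eq_fintype_card (α := ℤˣ), Fintype.card_units_int] at h1
      omega
    · exact MonoidHom.mem_ker.1 (h ▸ mem_top t)
  have hsq : act t ^ 2 = 1 := by rw [← map_pow, pow_two, S.tt, map_one]
  have hfp : Fintype.card (Function.fixedPoints (act t)) = 1 := by
    rw [Fintype.card_eq_one_iff]
    refine ⟨⟨QuotientGroup.mk 1, ?_⟩, ?_⟩
    · show t • (QuotientGroup.mk (1 : G) : G ⧸ M) = QuotientGroup.mk 1
      rw [MulAction.Quotient.smul_mk, smul_eq_mul, mul_one, QuotientGroup.eq, mul_one]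
      exact inv_mem htM
    · rintro ⟨x, hx⟩
      induction x using QuotientGroup.induction_on with
      | H g =>
        apply Subtype.ext
        have hx' : t • (QuotientGroup.mk g : G ⧸ M) = QuotientGroup.mk g := hx
        rw [MulAction.Quotient.smul_mk, smul_eq_mul, QuotientGroup.eq] at hx'
        have hm : g⁻¹ * t * g ∈ M := by
          have := inv_mem hx'
          rwa [mul_inv_rev, inv_inv, ← mul_assoc] at this
        show (QuotientGroup.mk g : G ⧸ M) = QuotientGroup.mk 1
        rw [QuotientGroup.eq, mul_one]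
        exact inv_mem (hfix g hm)
  have hs := Equiv.Perm.sign_of_pow_two_eq_one hsq
  rw [show Equiv.Perm.sign (act t) = χ t from rfl, hone, hfp,
    show Fintype.card (G ⧸ M) = M.index from (Nat.card_eq_fintype_card).symm] at hs
  rcases hi with h | h <;> rw [h] at hs <;> revert hs <;> decide

theorem eq_top [IsSimpleGroup G] (B : Base G) (hcard : Nat.card G = 175560) (M : Subgroup G)
    (hK : ∀ k : K, B.S.φ k ∈ M) (hd : B.d ∈ M) : M = ⊤ := by
  classical
  have h2 : Fact (Nat.Prime 2) := ⟨Nat.prime_two⟩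
  set t := B.S.φ zc with ht
  have hC : centralizer ({t} : Set G) ≤ M := by
    intro x hx
    obtain ⟨k, rfl⟩ := B.S.exists_pre (mem_centralizer_singleton_iff.1 hx)
    exact hK k
  obtain ⟨a, ha⟩ : 840 ∣ Nat.card M := by
    have h120 : 120 ∣ Nat.card M := by
      have := card_dvd_of_le hC
      rwa [B.S.card_cent] at this
    have h7 : 7 ∣ Nat.card M := by
      have hF : Fact (Nat.Prime 7) := ⟨by norm_num⟩
      have := orderOf_dvd_natCard (⟨B.d, hd⟩ : M)
      rwa [orderOf_mk, orderOf_eq_prime B.d_pow B.d_ne] at this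
    exact Nat.Coprime.mul_dvd_of_dvd_of_dvd (by norm_num : Nat.Coprime 120 7) h120 h7
  have hmul := Subgroup.card_mul_index M
  rw [hcard, ha] at hmul
  have hdvd : M.index ∣ 209 := by
    have hm : a * M.index = 209 := by
      have : 840 * (a * M.index) = 840 * 209 := by rw [← mul_assoc, hmul]
      omega
    exact ⟨a, by rw [← hm, mul_comm]⟩
  have hcases : M.index = 1 ∨ M.index = 11 ∨ M.index = 19 ∨ M.index = 209 := by
    have := divisors_209 hdvd
    simpa using this
  have hPle : ∀ v, psiG B.S v ∈ M := fun v => hK _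
  have htT : psiG B.S eT = t := congrArg B.S.φ iotaK_gens.1
  -- the class of `t` in `M`
  have hclass : ∀ y ∈ M, y * y = 1 → y ≠ 1 → ∃ m ∈ M, m * t * m⁻¹ = y := by
    intro y hy hyy hy1
    let P : Subgroup M := (psiG B.S).range.subgroupOf M
    have hP : Nat.card P = 8 := by
      rw [Nat.card_congr (subgroupOfEquivOfLe (show (psiG B.S).range ≤ M by rintro _ ⟨v, rfl⟩; exact hPle v)).toEquiv,
        ← Nat.card_congr (MonoidHom.ofInjective (psi_inj B.S)).toEquiv, card_V]
    have hfac : (Nat.card M).factorization 2 = 3 := by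
      refine le_antisymm ?_ ((Nat.Prime.pow_dvd_iff_le_factorization Nat.prime_two Nat.card_pos.ne').1
        (by have h8 := card_subgroup_dvd_card P; rw [hP] at h8; exact h8))
      by_contra h
      have h16 := ((Nat.Prime.pow_dvd_iff_le_factorization Nat.prime_two Nat.card_pos.ne').2 (not_le.1 h)).trans
        (card_subgroup_dvd_card M)
      exact B.S.sixteen h16
    let PS : Sylow 2 M := Sylow.ofCard P (by rw [hfac, hP]; norm_num)
    have hy2 : orderOf (⟨y, hy⟩ : M) = 2 := by
      rw [orderOf_mk]; exact orderOf_eq_prime (by rw [pow_two, hyy]) hy1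
    obtain ⟨T, hT⟩ := (IsPGroup.of_card (p := 2) (n := 1) (by rw [Nat.card_zpowers, hy2, pow_one]) :
      IsPGroup 2 (zpowers (⟨y, hy⟩ : M))).exists_le_sylow
    obtain ⟨g, hg⟩ := MulAction.exists_smul_eq M PS T
    have hmem := hT (mem_zpowers _)
    rw [← hg, Sylow.coe_subgroup_smul] at hmem
    obtain ⟨p, hp, hpe⟩ := hmem
    obtain ⟨v, hv⟩ := (mem_subgroupOf.1 hp : (p : G) ∈ (psiG B.S).range)
    have hpe' : (g : G) * (p : G) * (g : G)⁻¹ = y := congrArg Subtype.val hpe
    have hv1 : v ≠ 1 := fun e => by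
      rw [e, map_one] at hv
      rw [← hv, mul_one, mul_inv_cancel] at hpe'
      exact hy1 hpe'.symm
    obtain ⟨k, hk⟩ := conj_d B hv1
    refine ⟨g * B.d ^ k, mul_mem g.2 (pow_mem hd k), ?_⟩
    rw [← hpe', ← hv, ← hk, ← ht]; group
  -- the fixed coset is unique
  have hfix : ∀ g : G, g⁻¹ * t * g ∈ M → g ∈ M := by
    intro g hg
    obtain ⟨m, hm, e⟩ := hclass _ hg
      (by calc g⁻¹ * t * g * (g⁻¹ * t * g) = g⁻¹ * (t * t) * g := by group
            _ = 1 := by rw [B.S.tt]; group)
      (fun h => B.S.t_ne (by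
        calc t = g * (g⁻¹ * t * g) * g⁻¹ := by group
          _ = 1 := by rw [h]; group))
    have hc : g * m ∈ centralizer ({t} : Set G) := by
      rw [mem_centralizer_singleton_iff]
      calc g * m * t = g * (m * t * m⁻¹) * m := by group
        _ = t * (g * m) := by rw [e]; group
    have := mul_mem (hC hc) (inv_mem hm)
    rwa [mul_inv_cancel_right] at this
  rcases hcases with h | h | h | h
  · exact index_eq_one.1 h
  · exact (odd_perm B.S M (hC (mem_centralizer_singleton_iff.2 rfl)) hfix (Or.inl h)).elim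
  · exact (odd_perm B.S M (hC (mem_centralizer_singleton_iff.2 rfl)) hfix (Or.inr h)).elim
  exfalso
  -- seven conjugates in `M`
  rw [h] at hmul
  have hM : Nat.card M = 840 := by rw [ha]; omega
  let Cm : Subgroup M := (centralizer ({t} : Set G)).subgroupOf M
  have hCm : Cm.index = 7 := by
    have h1 := Subgroup.card_mul_index Cm
    rw [Nat.card_congr (subgroupOfEquivOfLe hC).toEquiv, B.S.card_cent, hM] at h1
    omega
  have hclassle : ∀ m : M, ∃ v, psiG B.S v = (m : G) * t * (m : G)⁻¹ := by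
    let Φ : {v : V // v ≠ 1} → M ⧸ Cm := fun v =>
      QuotientGroup.mk (⟨B.d ^ (conj_d B v.2).choose, pow_mem hd _⟩ : M)
    let Ψ : M ⧸ Cm → G := Quotient.lift (fun m : M => (m : G) * t * (m : G)⁻¹) (by
      intro x y hxy
      have h := QuotientGroup.leftRel_apply.1 hxy
      rw [mem_subgroupOf, mem_centralizer_singleton_iff] at h
      push_cast at h
      calc (x : G) * t * (x : G)⁻¹ = (x : G) * (t * ((x : G)⁻¹ * y)) * (y : G)⁻¹ := by group
        _ = (x : G) * (((x : G)⁻¹ * y) * t) * (y : G)⁻¹ := by rw [h]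
        _ = (y : G) * t * (y : G)⁻¹ := by group)
    have hΦ : ∀ v, Ψ (Φ v) = psiG B.S v.1 := fun v => (conj_d B v.2).choose_spec
    have hinj : Function.Injective Φ := fun v w e => Subtype.ext (psi_inj B.S (by rw [← hΦ, ← hΦ, e]))
    have hcard7 : Nat.card {v : V // v ≠ 1} = Nat.card (M ⧸ Cm) := by
      rw [show Nat.card (M ⧸ Cm) = Cm.index from rfl, hCm, card_V_ne]
    have hbij := (Function.Injective.bijective_of_nat_card_le hinj hcard7.ge)
    intro m
    obtain ⟨v, hv⟩ := hbij.2 (QuotientGroup.mk m)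
    exact ⟨v.1, by rw [← hΦ, hv]; rfl⟩
  obtain ⟨v, hv⟩ := hclassle ⟨B.S.φ kS * B.d, mul_mem (hK _) hd⟩
  have hu : B.d * t * B.d⁻¹ = psiG B.S eU := by
    have := B.act eT
    rw [show actD eT = eU by decide +kernel] at this
    rw [← htT]
    show B.d * B.S.φ (iotaK eT) * B.d⁻¹ = B.S.φ (iotaK eU)
    rw [this, mul_inv_cancel_right]
  have hss : B.S.φ kS * psiG B.S eU = psiG B.S v * B.S.φ kS := by
    rw [hv, ← hu]
    show _ = B.S.φ kS * B.d * t * (B.S.φ kS * B.d)⁻¹ * B.S.φ kS
    group
  exact s_moves v (B.S.inj (by rw [map_mul, map_mul]; exact hss))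

end Cfsg.Lib.JankoOne.Iso
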