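import Cfsg.Agent.JankoOne.Iso.Frame
import Cfsg.Agent.JankoOne.Iso.Words

/-!
The relations satisfied by the six letters, and generation.
-/

set_option autoImplicit false
set_option linter.unusedSectionVars false
set_option synthInstance.maxSize 2000

namespace Cfsg.Lib.JankoOne.Iso

open Subgroup Cfsg.Lib.CosetCert

universe u

variable {G : Type u} [Group G] [Finite G]

/-- The letters. -/
def Frame.im (F : Frame G) (l : ℕ) : G :=
  [F.B.S.φ zc, F.B.S.φ kU, F.B.S.φ kS, F.B.S.φ kY, F.z, F.z * F.B.d].getD l 1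

/-- The model values of the names lying in the centralizer. -/
def nameK (a : ℕ) : K := [zc, kU, kS, kY, 1, 1, kB, kB⁻¹].getD a 1

/-- The words in the centralizer. -/
def centRels : List (List ℕ) :=
  [[1, 1], [2, 2], [1, 6, 1, 6, 1, 6], [1, 2, 1, 2, 1, 2, 1, 2, 1, 2], [6, 2, 6, 2], [1, 6, 2, 1, 6, 2, 1, 6, 2],
   [1, 7, 2, 1, 7, 2, 1, 7, 2, 1, 7, 2, 1, 7, 2], [0, 0], [0, 1, 0, 1], [0, 7, 0, 6], [0, 2, 0, 2], [6, 6, 6]]

/-- The other common words. -/
def outerRels : List (List ℕ) :=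
  [[10, 10, 10, 10, 10, 10, 10], [6, 10, 7, 11, 11], [10, 0, 11, 1], [10, 1, 11, 7, 1, 6, 1],
   [10, 7, 1, 6, 11, 7, 1, 6, 0], [8, 8, 8, 8, 8], [0, 8, 0, 8], [7, 9, 6, 8], [0, 8, 10, 0, 8, 10], [7, 4, 6, 4],
   [10, 4, 10, 4], []]

/-- The common words. -/
def commonRels : List (List ℕ) := centRels ++ outerRels

theorem cent_check : (∀ h ∈ centRels, (h.map nameK).prod = 1 ∧ ∀ a ∈ h, a ∈ [0, 1, 2, 6, 7]) ∧
    kS * kY = kB ∧ kY * kS = kB⁻¹ ∧ kY * kY = 1 ∧ kU * kU = 1 := by decide +kernel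

theorem Frame.im_sq (F : Frame G) : ∀ l, F.im l * F.im l = 1 := by
  have hk : ∀ k : K, k * k = 1 → F.B.S.φ k * F.B.S.φ k = 1 := fun k h => by rw [← map_mul, h, map_one]
  intro l
  rcases (show l = 0 ∨ l = 1 ∨ l = 2 ∨ l = 3 ∨ l = 4 ∨ l = 5 ∨ 6 ≤ l by omega) with
    rfl | rfl | rfl | rfl | rfl | rfl | h
  · exact F.B.S.tt
  · exact hk kU cent_check.2.2.2.2
  · exact hk kS model_facts.2.2.2.2.1
  · exact hk kY cent_check.2.2.2.1
  · exact F.z_sq
  · show F.z * F.B.d * (F.z * F.B.d) = 1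
    rw [← mul_assoc, F.z_d, inv_mul_cancel]
  · rw [Frame.im, List.getD_eq_default _ _ (by simp; omega), one_mul]

theorem Frame.names (F : Frame G) :
    nameVal F.im 0 = F.B.S.φ zc ∧ nameVal F.im 1 = F.B.S.φ kU ∧ nameVal F.im 2 = F.B.S.φ kS ∧
    nameVal F.im 4 = F.z ∧ nameVal F.im 6 = F.B.S.φ kB ∧ nameVal F.im 7 = (F.B.S.φ kB)⁻¹ ∧
    nameVal F.im 8 = F.B.S.φ zc * F.z ∧ nameVal F.im 9 = (F.B.S.φ zc * F.z)⁻¹ ∧
    nameVal F.im 10 = F.B.d ∧ nameVal F.im 11 = F.B.d⁻¹ := by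
  have hzi : F.z⁻¹ = F.z := inv_eq_of_mul_eq_one_left F.z_sq
  have hti : (F.B.S.φ zc)⁻¹ = F.B.S.φ zc := inv_eq_of_mul_eq_one_left F.B.S.tt
  simp only [nameVal, expand, List.getD_cons_zero, List.getD_cons_succ, wval, List.map_cons, List.map_nil,
    List.prod_cons, List.prod_nil, mul_one, Frame.im, ← map_mul, ← map_inv, cent_check.2.1, cent_check.2.2.1]
  refine ⟨trivial, trivial, trivial, trivial, trivial, trivial, trivial, ?_, ?_, ?_⟩
  · rw [mul_inv_rev, hzi, hti]
  · rw [← mul_assoc, F.z_sq, one_mul]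
  · exact F.z_d

theorem Frame.common (F : Frame G) : ∀ h ∈ commonRels, (h.map (nameVal F.im)).prod = 1 := by
  obtain ⟨n0, n1, n2, n4, n6, n7, n8, n9, n10, n11⟩ := F.names
  intro h hh
  rcases List.mem_append.1 hh with hh | hh
  · obtain ⟨h1, hlet⟩ := cent_check.1 h hh
    rw [show h.map (nameVal F.im) = (h.map nameK).map F.B.S.φ from ?_, ← map_list_prod, h1, map_one]
    rw [List.map_map]
    refine List.map_congr_left fun a ha => ?_
    have := hlet a ha
    simp only [List.mem_cons, List.not_mem_nil, or_false] at this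
    rcases this with rfl | rfl | rfl | rfl | rfl
    · rw [n0]; rfl
    · rw [n1]; rfl
    · rw [n2]; rfl
    · rw [n6]; rfl
    · rw [n7, ← map_inv]; rfl
  have hzi : F.z⁻¹ = F.z := inv_eq_of_mul_eq_one_left F.z_sq
  set t := F.B.S.φ zc with ht
  set u := F.B.S.φ kU with hu
  set b := F.B.S.φ kB with hb
  set d := F.B.d with hd
  have htt : t * t = 1 := F.B.S.tt
  have htb : t * b = b * t := by rw [ht, hb, ← map_mul, ← map_mul, zc_comm]
  have hbd : b * d * b⁻¹ = d * d := F.B.bd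
  have huu : u * u = 1 := by rw [hu, ← map_mul, cent_check.2.2.2.2, map_one]
  have hv : F.B.S.φ kV = b⁻¹ * u * b := by rw [hb, hu, ← map_inv, ← map_mul, ← map_mul]; rfl
  have hvv : b⁻¹ * u * b * (b⁻¹ * u * b) = 1 := by
    calc _ = b⁻¹ * (u * u) * b := by group
      _ = 1 := by rw [huu]; group
  have aT : d * t = u * d := by
    have := F.B.act eT
    rw [iotaK_gens.1, show actD eT = eU by decide +kernel, iotaK_gens.2.1] at this
    exact this
  have aU : d * u = u * (b⁻¹ * u * b) * d := by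
    have := F.B.act eU
    rw [iotaK_gens.2.1, show actD eU = eU * eV by decide +kernel, map_mul, iotaK_gens.2.1, iotaK_gens.2.2, map_mul,
      hv] at this
    exact this
  have aV : d * (b⁻¹ * u * b) = t * (b⁻¹ * u * b) * d := by
    have := F.B.act eV
    rw [iotaK_gens.2.2, show actD eV = eT * eV by decide +kernel, map_mul, iotaK_gens.1, iotaK_gens.2.2, map_mul,
      hv] at this
    exact this
  simp only [outerRels, List.mem_cons, List.not_mem_nil, or_false] at hh
  rcases hh with rfl | rfl | rfl | rfl | rfl | rfl | rfl | rfl | rfl | rfl | rfl | rfl <;>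
    simp only [List.map_cons, List.map_nil, List.prod_cons, List.prod_nil, n0, n1, n4, n6, n7, n8, n9, n10, n11,
      mul_one]
  · rw [show d * (d * (d * (d * (d * (d * d))))) = d ^ 7 by simp only [pow_succ, pow_zero, one_mul, mul_assoc]]
    exact F.B.d_pow
  · calc b * (d * (b⁻¹ * (d⁻¹ * d⁻¹))) = (b * d * b⁻¹) * (d * d)⁻¹ := by group
      _ = 1 := by rw [hbd, mul_inv_cancel]
  · calc d * (t * (d⁻¹ * u)) = (d * t) * (d⁻¹ * u) := by group
      _ = u * u := by rw [aT]; group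
      _ = 1 := huu
  · calc d * (u * (d⁻¹ * (b⁻¹ * (u * (b * u))))) = (d * u) * d⁻¹ * (b⁻¹ * u * b) * u := by group
      _ = u * (b⁻¹ * u * b * (b⁻¹ * u * b)) * u := by rw [aU]; group
      _ = 1 := by rw [hvv, mul_one, huu]
  · calc d * (b⁻¹ * (u * (b * (d⁻¹ * (b⁻¹ * (u * (b * t)))))))
          = (d * (b⁻¹ * u * b)) * d⁻¹ * (b⁻¹ * u * b) * t := by group
      _ = t * (b⁻¹ * u * b * (b⁻¹ * u * b)) * t := by rw [aV]; group
      _ = 1 := by rw [hvv, mul_one, htt]
  · rw [show ∀ f : G, f * (f * (f * (f * f))) = f ^ 5 from fun f => by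
      simp only [pow_succ, pow_zero, one_mul, mul_assoc]]
    exact F.f_pow
  · calc t * (t * F.z * (t * (t * F.z))) = (t * t) * F.z * ((t * t) * F.z) := by group
      _ = 1 := by rw [htt, one_mul, F.z_sq]
  · have hbf : (t * F.z) * b = b * (t * F.z) := by rw [mul_assoc, ← F.z_b, ← mul_assoc, htb, mul_assoc]
    calc b⁻¹ * ((t * F.z)⁻¹ * (b * (t * F.z))) = b⁻¹ * ((t * F.z)⁻¹ * ((t * F.z) * b)) := by rw [hbf]
      _ = 1 := by group
  · calc t * (t * F.z * (d * (t * (t * F.z * d)))) = (t * t) * F.z * d * ((t * t) * F.z) * d := by group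
      _ = (F.z * d * F.z) * d := by rw [htt]; group
      _ = 1 := by rw [F.z_d, inv_mul_cancel]
  · calc b⁻¹ * (F.z * (b * F.z)) = b⁻¹ * (F.z * (F.z * b)) := by rw [F.z_b]
      _ = b⁻¹ * (F.z * F.z * b) := by group
      _ = 1 := by rw [F.z_sq]; group
  · calc d * (F.z * (d * F.z)) = d * (F.z * d * F.z) := by group
      _ = 1 := by rw [F.z_d, mul_inv_cancel]

/-- The commutator word of the first kind. -/
def commS : List ℕ := [2, 9, 2, 8]
/-- The commutator word of the second kind. -/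
def commTS : List ℕ := [0, 2, 9, 2, 0, 8]
/-- A cube. -/
def cube (w : List ℕ) : List ℕ := w ++ w ++ w

/-- The pairs of words of the eight cases. -/
def caseWords : List (List ℕ × List ℕ) :=
  [(commS, cube [2, 1, 7, 2, 1, 8]), (commS, cube [1, 7, 2, 1, 8]), (commS, cube [0, 1, 7, 2, 1, 8]),
   (commS, cube [2, 0, 1, 7, 2, 1, 8]), (commTS, cube [1, 7, 2, 1, 8]), (commTS, cube [0, 1, 7, 2, 1, 8]),
   (commTS, cube [2, 1, 7, 2, 1, 8]), (commTS, cube [2, 0, 1, 7, 2, 1, 8])]

/-- One of the cases holds. -/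
theorem Frame.cases (F : Frame G) (hcard : Nat.card G = 175560) :
    ∃ p ∈ caseWords, (p.1.map (nameVal F.im)).prod = 1 ∧ (p.2.map (nameVal F.im)).prod = 1 := by
  obtain ⟨n0, n1, n2, n4, n6, n7, n8, n9, n10, n11⟩ := F.names
  obtain ⟨kX, hX, hc⟩ := F.commuting hcard
  have h3 := F.third hX hc
  set t := F.B.S.φ zc with ht
  set f := t * F.z with hf
  have hw : F.B.S.φ kW = F.B.S.φ kU * (F.B.S.φ kB)⁻¹ * F.B.S.φ kS * F.B.S.φ kU := by
    rw [← map_inv, ← map_mul, ← map_mul, ← map_mul]; rfl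
  have htt : t * t = 1 := F.B.S.tt
  have hss : F.B.S.φ kS * F.B.S.φ kS = 1 := by rw [← map_mul, model_facts.2.2.2.2.1, map_one]
  have hts : t * F.B.S.φ kS = F.B.S.φ kS * t := by rw [ht, ← map_mul, ← map_mul, zc_comm]
  have ev : ∀ w : List ℕ, ((cube w).map (nameVal F.im)).prod = (w.map (nameVal F.im)).prod ^ 3 := fun w => by
    simp only [cube, List.map_append, List.prod_append, pow_succ, pow_zero, one_mul]
  rcases hX with rfl | rfl
  · have hcs : (commS.map (nameVal F.im)).prod = 1 := by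
      simp only [commS, List.map_cons, List.map_nil, List.prod_cons, List.prod_nil, n2, n8, n9, mul_one]
      rw [hc, ← mul_assoc f⁻¹, inv_mul_cancel, one_mul, hss]
    rcases h3 with h | h | h | h
    · refine ⟨(commS, cube [1, 7, 2, 1, 8]), by simp [caseWords], hcs, ?_⟩
      rw [ev]; simpa [n0, n1, n2, n7, n8, hw, mul_assoc] using h
    · refine ⟨(commS, cube [2, 1, 7, 2, 1, 8]), by simp [caseWords], hcs, ?_⟩
      rw [ev]; simpa [n0, n1, n2, n7, n8, hw, mul_assoc] using h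
    · refine ⟨(commS, cube [0, 1, 7, 2, 1, 8]), by simp [caseWords], hcs, ?_⟩
      rw [ev]; simpa [n0, n1, n2, n7, n8, hw, mul_assoc] using h
    · refine ⟨(commS, cube [2, 0, 1, 7, 2, 1, 8]), by simp [caseWords], hcs, ?_⟩
      rw [ev]; simpa [n0, n1, n2, n7, n8, hw, mul_assoc] using h
  · rw [map_mul, ← ht] at hc
    simp only [map_mul, ← ht] at h3
    set s := F.B.S.φ kS with hs
    have hcs : (commTS.map (nameVal F.im)).prod = 1 := by
      simp only [commTS, List.map_cons, List.map_nil, List.prod_cons, List.prod_nil, n0, n2, n8, n9, mul_one]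
      calc t * (s * (f⁻¹ * (s * (t * f)))) = t * s * f⁻¹ * ((s * t) * f) := by group
        _ = t * s * f⁻¹ * ((t * s) * f) := by rw [hts]
        _ = t * s * f⁻¹ * (f * (t * s)) := by rw [hc]
        _ = t * (s * t) * s := by group
        _ = (t * t) * (s * s) := by rw [← hts]; group
        _ = 1 := by rw [hss, mul_one, htt]
    rcases h3 with h | h | h | h
    · refine ⟨(commTS, cube [1, 7, 2, 1, 8]), by simp [caseWords], hcs, ?_⟩
      rw [ev]; simpa [n0, n1, n2, n7, n8, hw, mul_assoc] using h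
    · refine ⟨(commTS, cube [2, 0, 1, 7, 2, 1, 8]), by simp [caseWords], hcs, ?_⟩
      rw [hts] at h
      rw [ev]; simpa [n0, n1, n2, n7, n8, hw, mul_assoc] using h
    · refine ⟨(commTS, cube [0, 1, 7, 2, 1, 8]), by simp [caseWords], hcs, ?_⟩
      rw [ev]; simpa [n0, n1, n2, n7, n8, hw, mul_assoc] using h
    · refine ⟨(commTS, cube [2, 1, 7, 2, 1, 8]), by simp [caseWords], hcs, ?_⟩
      rw [hts, mul_assoc s t t, htt, mul_one] at h
      rw [ev]; simpa [n0, n1, n2, n7, n8, hw, mul_assoc] using h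

theorem reach_mem {M : Subgroup G} (S : Setup G) (h : S.φ zc ∈ M ∧ S.φ kU ∈ M ∧ S.φ kS ∈ M ∧ S.φ kB ∈ M) :
    ∀ k : K, S.φ k ∈ M := by
  intro k
  have hlet : ∀ a ∈ wordTable.getD (codeK k) [], a = 0 ∨ a = 1 ∨ a = 2 ∨ a = 6 := by
    intro a ha
    rw [List.getD_eq_getElem?_getD] at ha
    rcases hg : wordTable[codeK k]? with _ | w
    · simp [hg] at ha
    · rw [hg, Option.getD_some] at ha
      exact word_letters w (List.mem_of_getElem? hg) a ha
  rw [← word_spec k, map_list_prod]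
  refine list_prod_mem fun x hx => ?_
  rw [List.map_map, List.mem_map] at hx
  obtain ⟨a, ha, rfl⟩ := hx
  rcases hlet a ha with rfl | rfl | rfl | rfl
  · exact h.1
  · exact h.2.1
  · exact h.2.2.1
  · exact h.2.2.2

end Cfsg.Lib.JankoOne.Iso
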